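import Groth.Agent.Stk19b.Gerbe.Flat
import Groth.Agent.Stk19b.OpenSub.Basic

/-!
# The local essential image of a scheme in a stack
-/

set_option autoImplicit false
set_option backward.isDefEq.respectTransparency false
set_option backward.isDefEq.respectTransparency.types false

universe u

open CategoryTheory CategoryTheory.Limits AlgebraicGeometry Opposite FibCat Groth.Agent.Desc19

namespace Groth.Agent.Stk19b.LocIm

open Groth.Agent.Stk19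

variable {S : Scheme.{u}} {𝒳 : AlgSt.Cat S} {V : Over S}

/-- The objects which lift to `V` locally. -/
def locIm (z : overCat V ⥤ᵇ 𝒳) : 𝒳.obj → Prop := fun y =>
  ∃ R ∈ (AlgSp.J S) (𝒳.p.obj y), ∀ ⦃B : Over S⦄ (f : B ⟶ 𝒳.p.obj y), R f →
    ∃ (x : (overCat V).obj) (g : z.obj x ⟶ y), 𝒳.p.IsHomLift f g

variable {z : overCat V ⥤ᵇ 𝒳}

theorem locIm_of_hom (h : IsFibGrpd 𝒳.p) ⦃a b : 𝒳.obj⦄ (φ : a ⟶ b) (hb : locIm z b) : locIm z a := by
  obtain ⟨R, hR, hx⟩ := hb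
  refine ⟨R.pullback (𝒳.p.map φ), (AlgSp.J S).pullback_stable _ hR, fun B f hf => ?_⟩
  obtain ⟨x, g, hg⟩ := hx _ hf
  have ex : 𝒳.p.obj (z.obj x) = B := IsHomLift.domain_eq 𝒳.p (f ≫ 𝒳.p.map φ) g
  have hgm := IsHomLift.fac' 𝒳.p (f ≫ 𝒳.p.map φ) g
  obtain ⟨χ, ⟨hχ, -⟩, -⟩ := fibGrpd_fac h φ g (eqToHom ex ≫ f) (by rw [hgm]; simp)
  exact ⟨x, χ, lift_mk _ ex rfl (hχ.trans (by simp))⟩

theorem isClosedUnderIso_locIm (h : IsFibGrpd 𝒳.p) : ObjectProperty.IsClosedUnderIsomorphisms (locIm z) :=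
  ⟨fun e ha => locIm_of_hom h e.inv ha⟩

theorem locIm_obj (x : (overCat V).obj) : locIm z (z.obj x) :=
  ⟨⊤, (AlgSp.J S).top_mem _, fun B f _ => by
    let x' : (overCat V).obj := Over.mk ((f ≫ eqToHom (z.w_obj x)) ≫ x.hom)
    let φ : x' ⟶ x := Over.homMk (f ≫ eqToHom (z.w_obj x)) rfl
    exact ⟨x', z.map φ, lift_mk _ (z.w_obj x') rfl (by rw [based_map z φ]; simp [φ, x'])⟩⟩

theorem locIm_local {y : 𝒳.obj} {R : Sieve (𝒳.p.obj y)} (hR : R ∈ (AlgSp.J S) (𝒳.p.obj y))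
    (hloc : ∀ ⦃B : Over S⦄ (f : B ⟶ 𝒳.p.obj y), R f →
      ∃ (y' : 𝒳.obj) (g : y' ⟶ y), 𝒳.p.IsHomLift f g ∧ locIm z y') : locIm z y := by
  choose y' g hg T hT hx using fun (B : Over S) (f : B ⟶ 𝒳.p.obj y) (hf : R f) => hloc f hf
  have ey : ∀ {B : Over S} {f : B ⟶ 𝒳.p.obj y} (hf : R f), 𝒳.p.obj (y' B f hf) = B := fun {B f} hf =>
    have := hg B f hf
    IsHomLift.domain_eq 𝒳.p f (g B f hf)
  let T' : ∀ ⦃B : Over S⦄ ⦃f : B ⟶ 𝒳.p.obj y⦄, R f → Sieve B := fun B f hf =>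
    (T B f hf).pullback (eqToHom (ey hf).symm)
  refine ⟨Sieve.bind R.arrows T', (AlgSp.J S).bind_covering hR fun B f hf => (AlgSp.J S).pullback_stable _ (hT B f hf), ?_⟩
  rintro C _ ⟨B, p, f, hf, hp, rfl⟩
  obtain ⟨x, k, hk⟩ := hx B f hf _ hp
  have := hg B f hf
  have hkm := IsHomLift.fac' 𝒳.p (p ≫ eqToHom (ey hf).symm) k
  refine ⟨x, k ≫ g B f hf, lift_mk _ (IsHomLift.domain_eq 𝒳.p
    (p ≫ eqToHom (ey hf).symm) k) rfl ?_⟩
  rw [𝒳.p.map_comp, hkm, IsHomLift.fac' 𝒳.p f (g B f hf)]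
  simp

theorem locIm_cover {y : 𝒳.obj} {W : Over S} (c : W ⟶ 𝒳.p.obj y) [Flat c.left]
    [LocallyOfFinitePresentation c.left] [Surjective c.left] {y' : 𝒳.obj} (g : y' ⟶ y)
    (hg : 𝒳.p.IsHomLift c g) (hy' : locIm z y') (h : IsFibGrpd 𝒳.p) : locIm z y := by
  have : ∀ _ : PUnit.{u + 1}, Flat c.left := fun _ => inferInstance
  have : ∀ _ : PUnit.{u + 1}, LocallyOfFinitePresentation c.left := fun _ => inferInstance
  refine locIm_local (AlgSpLib.ofArrows_mem_J (fun _ : PUnit.{u + 1} => c)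
    fun v => ⟨PUnit.unit, c.left.surjective v⟩) fun B f hf => ?_
  obtain ⟨-, a, rfl⟩ := (Sieve.mem_ofArrows_iff _ _ f).1 hf
  obtain ⟨b, ν, eb, hν⟩ := fibGrpd_lift h y' (a ≫ eqToHom (IsHomLift.domain_eq 𝒳.p c g).symm)
  refine ⟨b, ν ≫ g, lift_mk _ eb rfl ?_, locIm_of_hom h ν hy'⟩
  rw [𝒳.p.map_comp, hν, IsHomLift.fac' 𝒳.p c g]
  simp

/-- The sections of `T` whose object lifts locally. -/
def imSubfunctor (h : IsFibGrpd 𝒳.p) (z : overCat V ⥤ᵇ 𝒳) {T : Over S} (y : overCat T ⥤ᵇ 𝒳) :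
    Subfunctor ((AlgSp.yon S).obj T).obj where
  obj B := {s | locIm z (y.obj (Over.mk s.down))}
  map {B B'} u s hs :=
    locIm_of_hom h (y.map (Over.homMk u.unop rfl : Over.mk (u.unop ≫ s.down) ⟶ Over.mk s.down)) hs

theorem imSubfunctor_isSheaf (h : IsFibGrpd 𝒳.p) (z : overCat V ⥤ᵇ 𝒳) {T : Over S} (y : overCat T ⥤ᵇ 𝒳) :
    Presieve.IsSheaf (AlgSp.J S) (imSubfunctor h z y).toFunctor := by
  refine (Subfunctor.isSheaf_iff _ ((isSheaf_iff_isSheaf_of_type _ _).1 ((AlgSp.yon S).obj T).2)).2 fun B s hs => ?_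
  let o := y.obj (Over.mk s.down)
  have eo : 𝒳.p.obj o = B.unop := y.w_obj _
  refine locIm_local ((AlgSp.J S).pullback_stable (eqToHom eo) hs) fun C f hf => ?_
  let φ : Over.mk ((f ≫ eqToHom eo) ≫ s.down) ⟶ Over.mk s.down := Over.homMk (f ≫ eqToHom eo) rfl
  exact ⟨_, y.map φ, lift_mk _ (y.w_obj (Over.mk ((f ≫ eqToHom eo) ≫ s.down))) rfl
    (by rw [based_map y φ]; simp [φ, o]), hf⟩

/-- The sheaf of sections of `T` whose object lifts locally. -/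
def imSheaf (h : IsFibGrpd 𝒳.p) (z : overCat V ⥤ᵇ 𝒳) {T : Over S} (y : overCat T ⥤ᵇ 𝒳) : AlgSp.Sp S :=
  ⟨(imSubfunctor h z y).toFunctor, (isSheaf_iff_isSheaf_of_type _ _).2 (imSubfunctor_isSheaf h z y)⟩

/-- Its inclusion. -/
def imι (h : IsFibGrpd 𝒳.p) (z : overCat V ⥤ᵇ 𝒳) {T : Over S} (y : overCat T ⥤ᵇ 𝒳) :
    imSheaf h z y ⟶ (AlgSp.yon S).obj T := ⟨(imSubfunctor h z y).ι⟩

instance mono_imι (h : IsFibGrpd 𝒳.p) (z : overCat V ⥤ᵇ 𝒳) {T : Over S} (y : overCat T ⥤ᵇ 𝒳) :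
    Mono (imι h z y) :=
  (sheafToPresheaf _ _).mono_of_mono_map (show Mono (imSubfunctor h z y).ι from inferInstance)

theorem exists_imSheaf_equiv (h : IsFibGrpd 𝒳.p) {T : Over S} (y : overCat T ⥤ᵇ 𝒳) :
    ∃ G : AlgSt.ofSp (imSheaf h z y) ⥤ᵇ fp y (AlgSt.subIncl 𝒳 (locIm z)), IsEquivOver G ∧
      BasedFunctor.comp G (fpFst _ _) = BasedFunctor.comp (AlgSt.ofSpMap (imι h z y)) (AlgSt.toOverCat T) := by
  let A : AlgSt.ofSp (imSheaf h z y) ⥤ᵇ overCat T :=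
    BasedFunctor.comp (AlgSt.ofSpMap (imι h z y)) (AlgSt.toOverCat T)
  let L : AlgSt.ofSp (imSheaf h z y) ⥤ᵇ AlgSt.fullSub 𝒳 (locIm z) :=
    { toFunctor := ObjectProperty.lift _ (BasedFunctor.comp A y).toFunctor fun a => a.sec.2
      w := (BasedFunctor.comp A y).w }
  let G : AlgSt.ofSp (imSheaf h z y) ⥤ᵇ fp y (AlgSt.subIncl 𝒳 (locIm z)) :=
    fpLift (F := y) (G := AlgSt.subIncl 𝒳 (locIm z)) A L (Iso.refl (BasedFunctor.comp A y))
  refine ⟨G, EqvData.isEquivOver ⟨⟨fun {a b} m => ?_⟩, ⟨fun {a b} f f' hff => ?_⟩, fun η => ?_⟩, rfl⟩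
  · let k : a ⟶ b := ⟨m.hom.fst.left, Subtype.ext (ULift.ext _ _ (Over.w m.hom.fst))⟩
    have hk : A.map k = m.hom.fst := Over.OverMorphism.ext rfl
    refine ⟨k, fp_hom_ext hk (ObjectProperty.hom_ext _ ?_)⟩
    change y.map (A.map k) = m.hom.snd.hom
    rw [hk]
    exact (Category.comp_id _).symm.trans (m.hom.w.trans (Category.id_comp _))
  · exact Stk.EltObj.Hom.ext (congrArg (fun m => m.hom.fst.left) hff)
  · let a := η.obj.fst
    have ha : locIm z (y.obj (Over.mk a.hom)) := locIm_of_hom h η.obj.iso.hom η.obj.snd.property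
    let b : (AlgSt.ofSp (imSheaf h z y)).obj := ⟨a.left, ⟨⟨a.hom⟩, ha⟩⟩
    let j : L.obj b ≅ η.obj.snd := (ObjectProperty.ι (locIm z)).preimageIso η.obj.iso
    let e : G.obj b ≅ η := fpIsoMk (Iso.refl a) j (by
      show y.map (𝟙 a) ≫ η.obj.iso.hom = 𝟙 _ ≫ (ObjectProperty.ι (locIm z)).map j.hom
      rw [y.toFunctor.map_id]
      exact (Category.id_comp _).trans ((Category.id_comp _).trans ((ObjectProperty.ι (locIm z)).map_preimage
          (X := L.obj b) (Y := η.obj.snd) η.obj.iso.hom)).symm)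
    exact ⟨b, e, (vert_iff (fp y (AlgSt.subIncl 𝒳 (locIm z))).p _).2 ⟨rfl, rfl, rfl⟩⟩

/-- An object in the local image lifts after one flat surjection locally of finite presentation. -/
theorem exists_lift (h𝒳 : AlgSt.IsAlgStack Scheme.fppfPrecoverage 𝒳) {T : Over S} {y : overCat T ⥤ᵇ 𝒳}
    (hy : ∀ a, locIm z (y.obj a)) :
    ∃ (W : Over S) (c : W ⟶ T) (t : W ⟶ V), Flat c.left ∧ LocallyOfFinitePresentation c.left ∧ Surjective c.left ∧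
      Nonempty (BasedFunctor.comp (AlgSt.overMap c) y ≅ BasedFunctor.comp (AlgSt.overMap t) z) := by
  have h := h𝒳.isStack.1
  have hloc : Gerb.LocSurjObj (AlgSp.J S) (fpFst y z) := by
    intro a
    obtain ⟨R, hR, hx⟩ := hy a
    refine ⟨R.pullback (eqToHom (y.w_obj a).symm), (AlgSp.J S).pullback_stable _ hR, fun B f hf => ?_⟩
    obtain ⟨x, g, hg⟩ := hx _ hf
    have ex : 𝒳.p.obj (z.obj x) = B := IsHomLift.domain_eq 𝒳.p (f ≫ eqToHom (y.w_obj a).symm) g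
    have hgm := IsHomLift.fac' 𝒳.p (f ≫ eqToHom (y.w_obj a).symm) g
    let a' : (overCat T).obj := Over.mk (f ≫ a.hom)
    let φ : a' ⟶ a := Over.homMk f rfl
    have ea : 𝒳.p.obj (y.obj a') = B := y.w_obj a'
    obtain ⟨κ, ⟨hκ, -⟩, -⟩ := fibGrpd_fac h g (y.map φ) (eqToHom (ea.trans ex.symm))
      (by rw [hgm, based_map y φ]; simp [φ, a'])
    have : IsIso κ :=
      have : IsIso (𝒳.p.map κ) := by rw [hκ]; infer_instance
      fibGrpd_isIso h _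
    let o : (fp y z).obj := fpMk a' x (asIso κ) (vert_change 𝒳.p _ (vert_of_map_eq 𝒳.p hκ) ea)
    exact ⟨o, φ, lift_mk _ rfl rfl (by
      change f = 𝟙 _ ≫ f ≫ 𝟙 _
      simp)⟩
  obtain ⟨W, c, hc₁, hc₂, hc₃, w, ⟨iw⟩⟩ := Gerbe.exists_cover_of_locSurjObj
    (isAlgStack_fp h𝒳.isStack h𝒳.diag (isAlgStack_overCat T) (isAlgStack_overCat V) y z).isStack
    (isAlgStack_overCat T).isStack hloc T (BasedFunctor.id _)
  obtain ⟨t, ⟨it⟩⟩ := exists_overMap_iso (BasedFunctor.comp w (fpSnd y z))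
  exact ⟨W, c, t, hc₁, hc₂, hc₃, ⟨(postB _ y).mapIso iw.symm ≪≫ (Stk.restr w _).mapIso (fpIso y z) ≪≫
    (postB _ z).mapIso it⟩⟩

end Groth.Agent.Stk19b.LocIm
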