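import Groth.Agent.Stk19b.LocIm.PointRG
import Groth.Agent.AlgSpLib.EtaleField
import Groth.Agent.Stk19b.Gerbe.QcDiag

/-!
# Residual spaces, and residual gerbes of gerbes
-/

set_option autoImplicit false
set_option backward.isDefEq.respectTransparency false
set_option backward.isDefEq.respectTransparency.types false

universe u

open CategoryTheory CategoryTheory.Limits AlgebraicGeometry Opposite FibCat Groth.Agent.Desc19

namespace Groth.Agent.Stk19b.LocIm

open Groth.Agent.Stk19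

variable {S : Scheme.{u}} {𝒳 : AlgSt.Cat S}

local notation "AS" => AlgSt.IsAlgStack Scheme.fppfPrecoverage
local notation "Srj" => AlgSt.RepByAlgSpWith AlgSp.IsSurjectiveMor

theorem discreteTopology_of_etale_field {K : Type u} [Field K] {T : Scheme.{u}}
    (s : T ⟶ Spec (CommRingCat.of K)) [Etale s] : DiscreteTopology T := by
  have := AlgSpLib.locallyQuasiFinite_of_etale s
  refine discreteTopology_iff_isOpen_singleton.2 fun w => ?_
  have h := s.isDiscrete_preimage_singleton (s w)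
  rw [show s ⁻¹' {s w} = Set.univ from Set.eq_univ_of_forall fun v => Subsingleton.elim _ _] at h
  have := isDiscrete_univ_iff.1 h
  exact isOpen_discrete _

/-- Every point of an algebraic space has a residual space. -/
theorem resGerbeExists_ofSp (X : AlgSp.Space S) (x : AlgSt.Points (AlgSt.ofSp X.obj)) :
    Gerb.ResGerbeExists Scheme.fppfPrecoverage (AlgSt.ofSp X.obj) x := by
  have hX : AS (AlgSt.ofSp X.obj) := (isDM_of_repByAlgSp (repByAlgSp_ofSp X)).1
  obtain ⟨U, w, hwe, hws⟩ := X.property.atlas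
  let c := BasedFunctor.comp (AlgSt.ofOverCat U) (AlgSt.ofSpMap w)
  have hc : AlgSt.RepByAlgSpWith (AlgSp.LocP @Smooth) c := with_sp_chart AlgSpLib.etLocal_smooth X.property w hwe
  have hcs : Srj c := with_equiv_comp (isEquivOver_ofOverCat U) (repByAlgSpWith_ofSpMap pbStable_surjective
    (V := ⟨_, AlgSp.IsAlgSpace.yon_obj U⟩) (Z := X) w (AlgSpLib.surjective_map_of_repWith hws))
  obtain ⟨v, hv⟩ := ofChart_surjective hX.isStack.1 hcs x
  let a : Spec (CommRingCat.of (U.left.residueField v)) ⟶ S := U.left.fromSpecResidueField v ≫ U.hom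
  let j : Over.mk a ⟶ U := Over.homMk (U.left.fromSpecResidueField v) rfl
  have hmono : Mono j.left := inferInstanceAs (Mono (U.left.fromSpecResidueField v))
  let z₀ := (AlgSp.yon S).map j ≫ w
  let P := pullback z₀ w
  have hP : AlgSp.IsAlgSpace P :=
    isAlgSpace_pullback_yon (V := ⟨_, AlgSp.IsAlgSpace.yon_obj (Over.mk a)⟩) (Z := X) z₀ w
  obtain ⟨T, p, hpe, hps⟩ := hP.atlas
  obtain ⟨s, hs⟩ := (AlgSp.yon S).map_surjective (p ≫ pullback.fst z₀ w)
  obtain ⟨t, ht⟩ := (AlgSp.yon S).map_surjective (p ≫ pullback.snd z₀ w)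
  have hse : Etale s.left := (AlgSp.repWith_yon_map_iff (P := @Etale) s).1 (hs ▸
    AlgSpLib.RepWith.comp hpe (AlgSpLib.RepWith.baseChange (IsPullback.of_hasPullback z₀ w).flip hwe))
  let s' : T.left ⟶ Spec (CommRingCat.of (U.left.residueField v)) := s.left
  have : Etale s' := hse
  have : DiscreteTopology T.left := discreteTopology_of_etale_field s'
  have : IsReduced T.left := AlgSpLib.isReduced_of_smooth' s'
  let z := BasedFunctor.comp (AlgSt.overMap j) c
  obtain ⟨E₀, hE₀, -, hE₀s⟩ := exists_fp_equiv (IsPullback.of_hasPullback z₀ w)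
  let E₁ : fp z c ⥤ᵇ fp (AlgSt.ofSpMap z₀) (AlgSt.ofSpMap w) :=
    fpMap (AlgSt.ofOverCat (Over.mk a)) (AlgSt.ofOverCat U) (BasedFunctor.id _) (Iso.refl _) (Iso.refl _)
  have : (BasedFunctor.id (AlgSt.ofSp X.obj)).toFunctor.Full := inferInstanceAs (𝟭 _).Full
  have : (BasedFunctor.id (AlgSt.ofSp X.obj)).toFunctor.Faithful := inferInstanceAs (𝟭 _).Faithful
  have hE₁ : IsEquivOver E₁ := isEquivOver_fpMap _ _ _ _ _ (isEquivOver_ofOverCat _) (isEquivOver_ofOverCat U)
  obtain ⟨G, hG, -, ⟨cG⟩⟩ := exists_inverse hE₁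
  let n₀ := BasedFunctor.comp (BasedFunctor.comp (AlgSt.ofOverCat T) (AlgSt.ofSpMap p)) E₀
  let n := BasedFunctor.comp n₀ G
  have hn : AlgSt.RepByAlgSpWith (AlgSp.LocP @Smooth) n :=
    with_comp_equiv hG (with_comp_equiv hE₀ (with_sp_chart AlgSpLib.etLocal_smooth hP p hpe))
  have hns : Srj n := with_comp_equiv hG (with_comp_equiv hE₀ (with_equiv_comp (isEquivOver_ofOverCat T)
    (repByAlgSpWith_ofSpMap pbStable_surjective (V := ⟨_, AlgSp.IsAlgSpace.yon_obj T⟩) (Z := ⟨P, hP⟩) p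
      (AlgSpLib.surjective_map_of_repWith hps))))
  have it : BasedFunctor.comp n (fpSnd z c) ≅ AlgSt.overMap t := by
    refine (Stk.restr n₀ _).mapIso ((postB _ (BasedFunctor.comp (fpSnd (AlgSt.ofSpMap z₀) (AlgSt.ofSpMap w))
      (AlgSt.toOverCat U))).mapIso cG) ≪≫ eqToIso ?_
    show BasedFunctor.comp (BasedFunctor.comp (AlgSt.ofOverCat T) (AlgSt.ofSpMap p))
      (BasedFunctor.comp (BasedFunctor.comp E₀ (fpSnd (AlgSt.ofSpMap z₀) (AlgSt.ofSpMap w))) (AlgSt.toOverCat U)) = _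
    rw [hE₀s, show AlgSt.overMap t = BasedFunctor.comp (BasedFunctor.comp (AlgSt.ofOverCat T)
      (AlgSt.ofSpMap ((AlgSp.yon S).map t))) (AlgSt.toOverCat U) from rfl, ht, ← ofSpMap_comp]
    rfl
  refine resGerbeExists_of_good hX (good_lfp_of_fibre hX hc j hn hns it (lfp_fst_of_discrete t.left j.left))
    fun q => ?_
  rw [ofChart_overMap]
  have : j.left q = v := Scheme.fromSpecResidueField_apply v q
  rw [this, hv]

/-- The residual gerbe exists at every point of a gerbe over an algebraic space. -/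
theorem resGerbeExists_of_gerbe (h𝒳 : AS 𝒳) (X : AlgSp.Space S) (π : 𝒳 ⥤ᵇ AlgSt.ofSp X.obj)
    (hπ : Gerb.IsGerbeOver (AlgSp.J S) π) (x : AlgSt.Points 𝒳) :
    Gerb.ResGerbeExists Scheme.fppfPrecoverage 𝒳 x := by
  have hX : AS (AlgSt.ofSp X.obj) := (isDM_of_repByAlgSp (repByAlgSp_ofSp X)).1
  obtain ⟨𝒵, i, hZ, hi, ⟨p⟩, hsub, hix⟩ := resGerbeExists_ofSp X (AlgSt.Points.map π x)
  have hN := isAlgStack_fp hX.isStack hX.diag hZ h𝒳 i π
  have hg := gerbeOver_fpFst h𝒳.isStack.1 hZ.isStack.1 hX.isStack.1 i hπ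
  obtain ⟨w, -, hw⟩ := exists_points_fp h𝒳.isStack.1 hX.isStack.1 hZ.isStack.1 π i p x (hix p)
  have hinj := (Gerbe.isHomeomorph_of_gerbe hN hZ hg).injective
  have hs : Subsingleton (AlgSt.Points (fp i π)) := ⟨fun a b => hinj (hsub.elim _ _)⟩
  exact ⟨fp i π, fpSnd i π, hN, repByAlgSpWith_fpSnd π hi, ⟨w⟩, hs, fun q => by rw [hs.elim q w, hw]⟩

end Groth.Agent.Stk19b.LocIm
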