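import Groth.Agent.Stk19b.LocIm.OnePoint
import Groth.Prelude.Def_StGerb

/-!
# Residual gerbes
-/

set_option autoImplicit false
set_option backward.isDefEq.respectTransparency false
set_option backward.isDefEq.respectTransparency.types false

universe u

open CategoryTheory CategoryTheory.Limits AlgebraicGeometry Opposite FibCat Groth.Agent.Desc19

namespace Groth.Agent.Stk19b.LocIm

open Groth.Agent.Stk19

variable {S : Scheme.{u}} {𝒳 𝒵 : AlgSt.Cat S}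

local notation "AS" => AlgSt.IsAlgStack Scheme.fppfPrecoverage
local notation "Srj" => AlgSt.RepByAlgSpWith AlgSp.IsSurjectiveMor
local notation "Fl" => AlgSt.RepByAlgSpWith (AlgSp.LocP @Flat)
local notation "Lp" => AlgSt.RepByAlgSpWith (AlgSp.LocP @LocallyOfFinitePresentation)
local notation "Lt" => AlgSt.RepByAlgSpWith (AlgSp.LocP @LocallyOfFiniteType)
local notation "RG" => Gerb.IsResGerbe Scheme.fppfPrecoverage

theorem good_comp_ff {P : MorphismProperty (AlgSp.Sp S)} {V : Over S} {z : overCat V ⥤ᵇ 𝒵} (f : 𝒵 ⥤ᵇ 𝒳)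
    [f.toFunctor.Full] [f.toFunctor.Faithful] (h : Good P z z) :
    Good P (BasedFunctor.comp z f) (BasedFunctor.comp z f) :=
  (pcov_equiv (E := fpMap (F := z) (G := z) (F' := BasedFunctor.comp z f) (G' := BasedFunctor.comp z f)
      (BasedFunctor.id _) (BasedFunctor.id _) f (Iso.refl _) (Iso.refl _))
    (isEquivOver_fpMap _ _ _ _ _ (isEquivOver_id _) (isEquivOver_id _)) (Iso.refl _)).1 h

theorem locIm_map {V : Over S} {z : overCat V ⥤ᵇ 𝒵} (f : 𝒵 ⥤ᵇ 𝒳) {o : 𝒵.obj} (ho : locIm z o) :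
    locIm (BasedFunctor.comp z f) (f.obj o) := by
  obtain ⟨R, hR, hx⟩ := ho
  refine ⟨R.pullback (eqToHom (f.w_obj o)), (AlgSp.J S).pullback_stable _ hR, fun B g hg => ?_⟩
  obtain ⟨x, φ, hφ⟩ := hx _ hg
  refine ⟨x, f.map φ, lift_mk _ ((f.w_obj _).trans (IsHomLift.domain_eq 𝒵.p (g ≫ eqToHom (f.w_obj o)) φ)) rfl ?_⟩
  rw [based_map f φ, IsHomLift.fac' 𝒵.p (g ≫ eqToHom (f.w_obj o)) φ]
  simp

/-- A reduced locally Noetherian one-point stack mapping monomorphically gives the residual gerbe, through which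
it factors by an equivalence. -/
theorem exists_resGerbe_factor (h𝒳 : AS 𝒳) (h𝒵 : AS 𝒵) {x : AlgSt.Points 𝒳} (f : 𝒵 ⥤ᵇ 𝒳)
    [f.toFunctor.Full] [f.toFunctor.Faithful] (hfx : ∀ p : AlgSt.Points 𝒵, AlgSt.Points.map f p = x)
    {k : Type u} [Field k] {a : Spec (CommRingCat.of k) ⟶ S} {z : overCat (Over.mk a) ⥤ᵇ 𝒵}
    (hzl : Lt z) :
    RG 𝒳 x (locIm (BasedFunctor.comp z f)) ∧
      (Lp z → Srj z → Fl z → ∃ e : 𝒵 ⥤ᵇ AlgSt.fullSub 𝒳 (locIm (BasedFunctor.comp z f)), IsEquivOver e ∧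
        Nonempty (BasedFunctor.comp e (AlgSt.subIncl 𝒳 (locIm (BasedFunctor.comp z f))) ≅ f)) := by
  have h := h𝒳.isStack.1
  have hf := good_flat_field (BasedFunctor.comp z f) (BasedFunctor.comp z f)
  have hp := good_comp_ff f (good_lfp_field hzl z)
  have hA := isAlgStack_locIm h𝒳 hf hp
  obtain ⟨h₁, h₂, h₃⟩ := toLocIm_props h𝒳 hf hp
  obtain ⟨hne, hsub⟩ := subsingleton_points_of_field hA h₁
  refine ⟨⟨isClosedUnderIso_locIm h, hA, reduced_of_field hA h₁ h₂, noetherian_of_field hA h₃ h₁ h₂, hne, hsub,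
    fun p => ?_⟩, fun hzp hzs hzf => ?_⟩
  · obtain ⟨t, rfl⟩ := ofChart_surjective hA.isStack.1 h₁ p
    rw [map_ofChart]
    exact (map_ofChart z f t).symm.trans (hfx _)
  · let e : 𝒵 ⥤ᵇ AlgSt.fullSub 𝒳 (locIm (BasedFunctor.comp z f)) :=
      { toFunctor := ObjectProperty.lift _ f.toFunctor fun o => locIm_map f (all_mem_locIm h𝒵.isStack.1 hzf hzp hzs o)
        w := f.w }
    have : e.toFunctor.Full := ⟨fun m => by
      obtain ⟨k, hk⟩ := f.toFunctor.map_surjective m.hom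
      exact ⟨k, ObjectProperty.hom_ext _ hk⟩⟩
    have : e.toFunctor.Faithful :=
      ⟨fun {X Y} m m' he => f.toFunctor.map_injective (congrArg (fun m => m.hom) he :)⟩
    exact ⟨e, isEquivOver_of_mono h𝒵 hA (repByAlgSp1_of_faithful h𝒵 hA e)
      ⟨AlgSt.Points.ofChart z (IsLocalRing.closedPoint k : ↥(Spec (CommRingCat.of k)))⟩ h₃ h₁ h₂, ⟨Iso.refl f⟩⟩

theorem resGerbe_le (h𝒳 : AS 𝒳) {x : AlgSt.Points 𝒳} {Q Q' : 𝒳.obj → Prop} (hQ : RG 𝒳 x Q) (hQ' : RG 𝒳 x Q')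
    (ξ : 𝒳.obj) (hξ : Q ξ) : Q' ξ := by
  obtain ⟨hc, hA, hred, hno, hne, hsub, hx⟩ := hQ
  obtain ⟨hc', hA', -, -, hne', -, hx'⟩ := hQ'
  obtain ⟨k, _, a, z, hzp, hzs, hzf⟩ := exists_fppf_field hA hred hno hne hsub
  obtain ⟨p⟩ := hne
  obtain ⟨p'⟩ := hne'
  obtain ⟨w, -, -⟩ := exists_points_fp hA'.isStack.1 h𝒳.isStack.1 hA.isStack.1 (AlgSt.subIncl 𝒳 Q') (AlgSt.subIncl 𝒳 Q)
    p p' ((hx p).trans (hx' p').symm)
  have hN := isAlgStack_fp h𝒳.isStack h𝒳.diag hA hA' (AlgSt.subIncl 𝒳 Q) (AlgSt.subIncl 𝒳 Q')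
  obtain ⟨_, _⟩ := fpFst_ff (AlgSt.subIncl 𝒳 Q) (AlgSt.subIncl 𝒳 Q')
  obtain ⟨-, -, hsurj⟩ := EqvData.of_isEquivOver (isEquivOver_of_mono hN hA
    (repByAlgSp1_of_faithful hN hA (fpFst (AlgSt.subIncl 𝒳 Q) (AlgSt.subIncl 𝒳 Q'))) ⟨w⟩ hzp hzs hzf)
  obtain ⟨o, e, -⟩ := hsurj ⟨ξ, hξ⟩
  exact hc'.of_iso (o.obj.iso.symm ≪≫ (AlgSt.subIncl 𝒳 Q).toFunctor.mapIso e) o.obj.snd.property

theorem resGerbe_unique (h𝒳 : AS 𝒳) {x : AlgSt.Points 𝒳} {Q Q' : 𝒳.obj → Prop} (hQ : RG 𝒳 x Q) (hQ' : RG 𝒳 x Q')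
    (ξ : 𝒳.obj) : Q ξ ↔ Q' ξ :=
  ⟨resGerbe_le h𝒳 hQ hQ' ξ, resGerbe_le h𝒳 hQ' hQ ξ⟩

/-- A field-valued point in the class `x` factors through the residual gerbe at `x`. -/
theorem exists_factor (h𝒳 : AS 𝒳) {x : AlgSt.Points 𝒳} {Q : 𝒳.obj → Prop} (hQ : RG 𝒳 x Q) {K : Type u} [Field K]
    {a : Spec (CommRingCat.of K) ⟶ S} (p : overCat (Over.mk a) ⥤ᵇ 𝒳)
    (hp : ∀ t : ↥(Over.mk a).left, AlgSt.Points.ofChart p t = x) :
    ∃ q : overCat (Over.mk a) ⥤ᵇ AlgSt.fullSub 𝒳 Q, Nonempty (BasedFunctor.comp q (AlgSt.subIncl 𝒳 Q) ≅ p) := by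
  obtain ⟨-, hA, -, -, hne, -, hx⟩ := hQ
  obtain ⟨q⟩ := hne
  exact exists_section_of_ff hA.isStack.1 h𝒳.isStack.1 (repByAlgSp1_of_faithful hA h𝒳 _) p q
    (IsLocalRing.closedPoint K : ↥(Spec (CommRingCat.of K))) ((hp _).trans (hx q).symm)

/-- Morphisms of stacks map residual gerbes to residual gerbes. -/
theorem map_resGerbe {𝒴 : AlgSt.Cat S} (h𝒳 : AS 𝒳) (h𝒴 : AS 𝒴) (f : 𝒳 ⥤ᵇ 𝒴) {x : AlgSt.Points 𝒳}
    {Q : 𝒳.obj → Prop} (hQ : RG 𝒳 x Q) {Q' : 𝒴.obj → Prop} (hQ' : RG 𝒴 (AlgSt.Points.map f x) Q')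
    (o : 𝒳.obj) (ho : Q o) : Q' (f.obj o) := by
  obtain ⟨hc, hA, hred, hno, hne, hsub, hx⟩ := hQ
  obtain ⟨k, _, a, z, hzp, hzs, hzf⟩ := exists_fppf_field hA hred hno hne hsub
  let zf := BasedFunctor.comp (BasedFunctor.comp z (AlgSt.subIncl 𝒳 Q)) f
  obtain ⟨q, ⟨iq⟩⟩ := exists_factor h𝒴 hQ' zf fun t =>
    ((map_ofChart (BasedFunctor.comp z (AlgSt.subIncl 𝒳 Q)) f t).symm.trans
      (congrArg (AlgSt.Points.map f) ((map_ofChart z (AlgSt.subIncl 𝒳 Q) t).symm.trans (hx _))))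
  have hQ'₀ := hQ'
  obtain ⟨hc', hA', hred', hno', hne', hsub', hx'⟩ := hQ'
  obtain ⟨k', _, a', z', hzp', hzs', hzf'⟩ := exists_fppf_field hA' hred' hno' hne' hsub'
  have hzl' : Lt z' := repByAlgSpWith_mono (fun _ _ _ _ ha =>
    AlgSpLib.locP_mono (Q := @LocallyOfFiniteType) (fun _ _ g (hg : LocallyOfFinitePresentation g) => inferInstance) ha) hzp'
  obtain ⟨hR, -⟩ := exists_resGerbe_factor h𝒴 hA' (AlgSt.subIncl 𝒴 Q') hx' hzl'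
  refine (resGerbe_unique h𝒴 hR hQ'₀ _).1 ?_
  obtain ⟨R, hR₁, hR₂⟩ := all_mem_locIm hA.isStack.1 hzf hzp hzs ⟨o, ho⟩
  refine locIm_local ((AlgSp.J S).pullback_stable (eqToHom (f.w_obj o)) hR₁) fun B g hg => ?_
  obtain ⟨y, φ, hφ⟩ := hR₂ _ hg
  have hh : locIm (BasedFunctor.comp z' (AlgSt.subIncl 𝒴 Q')) (zf.obj y) :=
    locIm_of_hom h𝒴.isStack.1 (iq.inv.toNatTrans.app y)
      (locIm_map (AlgSt.subIncl 𝒴 Q') (all_mem_locIm hA'.isStack.1 hzf' hzp' hzs' (q.obj y)))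
  refine ⟨_, f.map ((AlgSt.subIncl 𝒳 Q).map φ), lift_mk _ ((zf.w_obj y).trans
    ((z.w_obj y).symm.trans (IsHomLift.domain_eq (AlgSt.fullSub 𝒳 Q).p (g ≫ eqToHom (f.w_obj o)) φ))) rfl ?_, hh⟩
  rw [based_map f, show 𝒳.p.map ((AlgSt.subIncl 𝒳 Q).map φ) = (AlgSt.fullSub 𝒳 Q).p.map φ from rfl]
  erw [IsHomLift.fac' (AlgSt.fullSub 𝒳 Q).p (g ≫ eqToHom (f.w_obj o)) φ]
  simp

end Groth.Agent.Stk19b.LocIm
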