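import Groth.Agent.Stk19b.LocIm.Field

/-!
# The substack of a stack with a flat surjection from a field
-/

set_option autoImplicit false
set_option backward.isDefEq.respectTransparency false
set_option backward.isDefEq.respectTransparency.types false

universe u

open CategoryTheory CategoryTheory.Limits AlgebraicGeometry Opposite FibCat Groth.Agent.Desc19

namespace Groth.Agent.Stk19b.LocIm

open Groth.Agent.Stk19

variable {S : Scheme.{u}} {𝒳 : AlgSt.Cat S}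

local notation "AS" => AlgSt.IsAlgStack Scheme.fppfPrecoverage
local notation "Srj" => AlgSt.RepByAlgSpWith AlgSp.IsSurjectiveMor
local notation "Fl" => AlgSt.RepByAlgSpWith (AlgSp.LocP @Flat)
local notation "Lp" => AlgSt.RepByAlgSpWith (AlgSp.LocP @LocallyOfFinitePresentation)
local notation "Lt" => AlgSt.RepByAlgSpWith (AlgSp.LocP @LocallyOfFiniteType)

/-- `Q` cuts out an algebraic substack which is fppf covered by a field. -/
def FieldFppf (Q : 𝒳.obj → Prop) : Prop :=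
  ∃ (k : Type u) (_ : Field k) (a : Spec (CommRingCat.of k) ⟶ S)
    (z : overCat (Over.mk a) ⥤ᵇ AlgSt.fullSub 𝒳 Q), Lp z ∧ Srj z ∧ Fl z

theorem isMono_subIncl (h𝒳 : AS 𝒳) {Q : 𝒳.obj → Prop} (hQ : AS (AlgSt.fullSub 𝒳 Q)) :
    AlgSt.IsMono (AlgSt.subIncl 𝒳 Q) := fun T y => by
  obtain ⟨X, e, he⟩ := repByAlgSp1_of_faithful hQ h𝒳 (AlgSt.subIncl 𝒳 Q) T y
  exact ⟨X, e, he, mono_witness_of_ff he⟩

theorem locIm_fieldFppf {k : Type u} [Field k] {a : Spec (CommRingCat.of k) ⟶ S}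
    {z : overCat (Over.mk a) ⥤ᵇ 𝒳} (h𝒳 : AS 𝒳) (hzl : Lt z) :
    AS (AlgSt.fullSub 𝒳 (locIm z)) ∧ AlgSt.IsMono (AlgSt.subIncl 𝒳 (locIm z)) ∧ FieldFppf (locIm z) := by
  have hf := good_flat_field z z
  have hp := good_lfp_field hzl z
  obtain ⟨h₁, h₂, h₃⟩ := toLocIm_props h𝒳 hf hp
  exact ⟨isAlgStack_locIm h𝒳 hf hp, rep_fp_subIncl h𝒳 hf hp, k, inferInstance, a, _, h₃, h₁, h₂⟩

/-- A substack fppf covered by a field is the local image of any flat surjection of finite type from a field. -/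
theorem eq_locIm (h𝒳 : AS 𝒳) {k : Type u} [Field k] {a : Spec (CommRingCat.of k) ⟶ S}
    {z : overCat (Over.mk a) ⥤ᵇ 𝒳} (hzl : Lt z) (hzs : Srj z)
    {Q : 𝒳.obj → Prop} (hQ : ObjectProperty.IsClosedUnderIsomorphisms Q) (hA : AS (AlgSt.fullSub 𝒳 Q))
    (hF : FieldFppf Q) (ξ : 𝒳.obj) : Q ξ ↔ locIm z ξ := by
  have h := h𝒳.isStack.1
  obtain ⟨k', _, a', z', hp', hs', hf'⟩ := hF
  have hle : ∀ o : (AlgSt.fullSub 𝒳 Q).obj, locIm z o.obj := fun o => by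
    obtain ⟨y, i, -⟩ := exists_classifying hA.isStack.1 o rfl
    obtain ⟨W, c, _, _, _, w, ⟨iw⟩⟩ := exists_lift_of_cover hf' hp' hs' _ y
    refine locIm_of_hom h ((AlgSt.subIncl 𝒳 Q).map i.inv) ?_
    show locIm z ((BasedFunctor.comp y (AlgSt.subIncl 𝒳 Q)).obj _)
    refine locIm_of_hom h ((BasedFunctor.comp y (AlgSt.subIncl 𝒳 Q)).map (toId _)) ?_
    let yQ := BasedFunctor.comp y (AlgSt.subIncl 𝒳 Q)
    let g : yQ.obj ((AlgSt.overMap c).obj (Over.mk (𝟙 W))) ⟶ yQ.obj (Over.mk (𝟙 _)) := yQ.map (toId _)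
    let o' := yQ.obj (Over.mk (𝟙 (𝒳.p.obj o.obj)))
    have eo : 𝒳.p.obj o' = 𝒳.p.obj o.obj := yQ.w_obj _
    have hF : Flat (c ≫ eqToHom eo.symm).left := by rw [Over.comp_left]; infer_instance
    have hL : LocallyOfFinitePresentation (c ≫ eqToHom eo.symm).left := by rw [Over.comp_left]; infer_instance
    have hS : Surjective (c ≫ eqToHom eo.symm).left := by rw [Over.comp_left]; infer_instance
    refine locIm_cover (c ≫ eqToHom eo.symm) g
      (lift_mk _ (yQ.w_obj ((AlgSt.overMap c).obj (Over.mk (𝟙 W)))) rfl ?_) ?_ h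
    · show 𝒳.p.map (yQ.map _) = _
      rw [based_map yQ]
      simp [o', yQ, toId, AlgSt.overMap]
    · exact locIm_of_hom h ((AlgSt.subIncl 𝒳 Q).map (iw.inv.toNatTrans.app (Over.mk (𝟙 W))))
        (field_mem_locIm h𝒳 hzs hzl (BasedFunctor.comp z' (AlgSt.subIncl 𝒳 Q)) _)
  refine ⟨fun hξ => hle ⟨ξ, hξ⟩, fun hξ => ?_⟩
  obtain ⟨hI, -, -⟩ := locIm_fieldFppf h𝒳 hzl
  obtain ⟨h₁, h₂, h₃⟩ := toLocIm_props h𝒳 (good_flat_field z z) (good_lfp_field hzl z)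
  let J : AlgSt.fullSub 𝒳 Q ⥤ᵇ AlgSt.fullSub 𝒳 (locIm z) :=
    { toFunctor := ObjectProperty.lift _ (AlgSt.subIncl 𝒳 Q).toFunctor hle
      w := rfl }
  have : J.toFunctor.Full := ⟨fun m => ⟨ObjectProperty.homMk m.hom, rfl⟩⟩
  have : J.toFunctor.Faithful :=
    ⟨fun {X Y} m m' e => ObjectProperty.hom_ext _ (congrArg (fun m => m.hom) e :)⟩
  have hne : Nonempty (AlgSt.Points (AlgSt.fullSub 𝒳 Q)) :=
    ⟨AlgSt.Points.ofChart z' (IsLocalRing.closedPoint k' : ↥(Spec (CommRingCat.of k')))⟩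
  obtain ⟨-, -, hsurj⟩ := EqvData.of_isEquivOver
    (isEquivOver_of_mono hA hI (repByAlgSp1_of_faithful hA hI J) hne h₃ h₁ h₂)
  obtain ⟨o, e, -⟩ := hsurj ⟨ξ, hξ⟩
  exact hQ.of_iso ((AlgSt.subIncl 𝒳 (locIm z)).toFunctor.mapIso e) o.property

end Groth.Agent.Stk19b.LocIm
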