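import Groth.Agent.Stk19b.LocIm.Unique
import Groth.Agent.VarietyLib.SmoothStalk
import Groth.Agent.AlgSpLib.EtaleAscend
import Groth.Agent.AlgSpLib.NoethSource
import Mathlib.RingTheory.KrullDimension.Zero

/-!
# Reduced stacks with one point
-/

set_option autoImplicit false
set_option backward.isDefEq.respectTransparency false
set_option backward.isDefEq.respectTransparency.types false

universe u

open CategoryTheory CategoryTheory.Limits AlgebraicGeometry Opposite FibCat Groth.Agent.Desc19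

namespace Groth.Agent.Stk19b.LocIm

open Groth.Agent.Stk19

variable {S : Scheme.{u}} {𝒳 : AlgSt.Cat S}

local notation "AS" => AlgSt.IsAlgStack Scheme.fppfPrecoverage
local notation "Srj" => AlgSt.RepByAlgSpWith AlgSp.IsSurjectiveMor
local notation "Fl" => AlgSt.RepByAlgSpWith (AlgSp.LocP @Flat)
local notation "Lp" => AlgSt.RepByAlgSpWith (AlgSp.LocP @LocallyOfFinitePresentation)
local notation "Lt" => AlgSt.RepByAlgSpWith (AlgSp.LocP @LocallyOfFiniteType)

theorem exists_flat_field_scheme (X : Scheme.{u}) [IsReduced X] [Nonempty X] :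
    ∃ (K : Type u) (_ : Field K) (j : Spec (CommRingCat.of K) ⟶ X), Flat j := by
  obtain ⟨v⟩ := ‹Nonempty X›
  obtain ⟨i, u, -⟩ := X.affineCover.exists_eq v
  obtain ⟨U, hU, hne⟩ : ∃ U : X.Opens, IsAffineOpen U ∧ Nonempty U :=
    ⟨(X.affineCover.f i).opensRange, isAffineOpen_opensRange _, ⟨⟨_, u, rfl⟩⟩⟩
  have : Nontrivial Γ(X, U) := PrimeSpectrum.nontrivial (hU.primeIdealOf hne.some)
  obtain ⟨P, hP⟩ := (Ideal.nonempty_minimalPrimes (I := (⊥ : Ideal Γ(X, U))) bot_ne_top)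
  have := hP.1.1
  have : Ring.KrullDimLE 0 (Localization.AtPrime P) := .of_isLocalization _ hP _
  let : Field (Localization.AtPrime P) := Ring.KrullDimLE.isField_of_isReduced.toField
  have : Flat (Spec.map (CommRingCat.ofHom (algebraMap Γ(X, U) (Localization.AtPrime P)))) := by
    rw [Flat.SpecMap_iff]
    exact RingHom.flat_algebraMap_iff.2 (IsLocalization.flat _ P.primeCompl)
  exact ⟨Localization.AtPrime P, inferInstance,
    Spec.map (CommRingCat.ofHom (algebraMap Γ(X, U) (Localization.AtPrime P))) ≫ hU.fromSpec, inferInstance⟩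

/-- A reduced stack with one point receives a flat surjection from a field. -/
theorem exists_flat_field (h𝒳 : AS 𝒳) (hred : AlgSt.SmoothLocally (fun T => IsReduced T) 𝒳)
    (hne : Nonempty (AlgSt.Points 𝒳)) (hsub : Subsingleton (AlgSt.Points 𝒳)) :
    ∃ (k : Type u) (_ : Field k) (a : Spec (CommRingCat.of k) ⟶ S) (z : overCat (Over.mk a) ⥤ᵇ 𝒳), Srj z ∧ Fl z := by
  obtain ⟨W, w, hw, hws⟩ := h𝒳.atlas
  obtain ⟨p⟩ := hne
  obtain ⟨v, -⟩ := ofChart_surjective h𝒳.isStack.1 hws p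
  have : IsReduced W.left := hred W w hw
  have : Nonempty W.left := ⟨v⟩
  obtain ⟨K, _, j, hj⟩ := exists_flat_field_scheme W.left
  let c : Over.mk (j ≫ W.hom) ⟶ W := Over.homMk j rfl
  refine ⟨K, inferInstance, j ≫ W.hom, BasedFunctor.comp (AlgSt.overMap c) w, ?_,
    with_comp_chart AlgSpLib.etLocal_flat c hj (with_flat_of_smooth hw).1⟩
  exact with_surjective_of_ofChart h𝒳.isStack.1
    (repByAlgSp1_of_diag h𝒳.isStack.1 h𝒳.diag (repByAlgSp_overCat _) _)
    fun x => ⟨(IsLocalRing.closedPoint K : ↥(Spec (CommRingCat.of K))), hsub.elim _ _⟩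

/-- A flat surjection from a field gives one which is locally of finite type. -/
theorem exists_lft_flat_field (h𝒳 : AS 𝒳) {k : Type u} [Field k] {a : Spec (CommRingCat.of k) ⟶ S}
    {z : overCat (Over.mk a) ⥤ᵇ 𝒳} (hzs : Srj z) (hzf : Fl z) :
    ∃ (k : Type u) (_ : Field k) (a : Spec (CommRingCat.of k) ⟶ S) (z : overCat (Over.mk a) ⥤ᵇ 𝒳),
      Lt z ∧ Srj z ∧ Fl z := by
  obtain ⟨k', _, a', z', hl⟩ := exists_lft_field h𝒳
    ⟨AlgSt.Points.ofChart z (IsLocalRing.closedPoint k : ↥(Spec (CommRingCat.of k)))⟩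
  exact ⟨k', inferInstance, a', z', hl, FieldFlat.surjective_of_surjective_field h𝒳 hzs z',
    FieldFlat.flat_of_flat_field h𝒳 hzs hzf z'⟩

/-- Charts of a stack covered by a field are covered by schemes smooth over the field. -/
theorem exists_chart_cover (h𝒳 : AS 𝒳) {k : Type u} [Field k] {a : Spec (CommRingCat.of k) ⟶ S}
    {z : overCat (Over.mk a) ⥤ᵇ 𝒳} (hzs : Srj z) (hzf : Fl z) {U : Over S} {x : overCat U ⥤ᵇ 𝒳}
    (hx : AlgSt.RepByAlgSpWith (AlgSp.LocP @Smooth) x) :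
    ∃ (T : Over S) (c : T ⟶ U) (d : T ⟶ Over.mk a), Flat c.left ∧ Surjective c.left ∧ Smooth d.left ∧
      (Lp z → LocallyOfFinitePresentation c.left) := by
  have hA := isAlgStack_fp h𝒳.isStack h𝒳.diag (isAlgStack_overCat U) (isAlgStack_overCat (Over.mk a)) x z
  obtain ⟨T, n, hn, hns⟩ := hA.atlas
  obtain ⟨c, ⟨ic⟩⟩ := exists_overMap_iso (BasedFunctor.comp n (fpFst x z))
  obtain ⟨d, ⟨id'⟩⟩ := exists_overMap_iso (BasedFunctor.comp n (fpSnd x z))
  have hcs : Srj (AlgSt.overMap c) := repByAlgSpWith_of_iso ic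
    (repByAlgSpWith_comp_desc respSrc_surjective atlasDescent_surjective compStable_surjective
      (isFibGrpd_overCat T) hA.isStack.1 hns (repByAlgSpWith_fpFst x hzs))
  refine ⟨T, c, d, Gerbe.prop_of_with_overMap AlgSpLib.etLocal_flat (repByAlgSpWith_of_iso ic
    (with_comp_locP AlgSpLib.etLocal_flat hA.isStack.1 (with_flat_of_smooth hn).1 (repByAlgSpWith_fpFst x hzf))),
    ⟨fun v => ?_⟩, Gerbe.prop_of_with_overMap AlgSpLib.etLocal_smooth (repByAlgSpWith_of_iso id'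
    (with_comp_locP AlgSpLib.etLocal_smooth hA.isStack.1 hn (repByAlgSpWith_fpSnd z hx))),
    fun hzp => Gerbe.prop_of_with_overMap AlgSpLib.etLocal_lfp (repByAlgSpWith_of_iso ic
    (with_comp_locP AlgSpLib.etLocal_lfp hA.isStack.1 (with_flat_of_smooth hn).2 (repByAlgSpWith_fpFst x hzp)))⟩
  obtain ⟨r, hr⟩ := ofChart_surjective (isFibGrpd_overCat U) hcs (AlgSt.Points.ofChart (BasedFunctor.id _) v)
  refine ⟨r, (ofChart_id_bijective U).1 ?_⟩
  rw [← hr, ← ofChart_overMap]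
  rfl

theorem reduced_of_field (h𝒳 : AS 𝒳) {k : Type u} [Field k] {a : Spec (CommRingCat.of k) ⟶ S}
    {z : overCat (Over.mk a) ⥤ᵇ 𝒳} (hzs : Srj z) (hzf : Fl z) :
    AlgSt.SmoothLocally (fun T => IsReduced T) 𝒳 := fun U x hx => by
  obtain ⟨T, c, d, _, _, hd, -⟩ := exists_chart_cover h𝒳 hzs hzf hx
  let d' : T.left ⟶ Spec (CommRingCat.of k) := d.left
  have : Smooth d' := hd
  have : IsReduced T.left := AlgSpLib.isReduced_of_smooth' d'
  exact AlgSpLib.isReduced_of_flat_surjective c.left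

theorem noetherian_of_field (h𝒳 : AS 𝒳) {k : Type u} [Field k] {a : Spec (CommRingCat.of k) ⟶ S}
    {z : overCat (Over.mk a) ⥤ᵇ 𝒳} (hzp : Lp z) (hzs : Srj z) (hzf : Fl z) :
    AlgSt.SmoothLocally (fun T => IsLocallyNoetherian T) 𝒳 := fun U x hx => by
  obtain ⟨T, c, d, _, _, hd, hc⟩ := exists_chart_cover h𝒳 hzs hzf hx
  have := hc hzp
  let d' : T.left ⟶ Spec (CommRingCat.of k) := d.left
  have : Smooth d' := hd
  have : IsLocallyNoetherian T.left := LocallyOfFiniteType.isLocallyNoetherian d'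
  exact AlgSpLib.isLocallyNoetherian_of_surjective c.left

theorem regular_of_field (h𝒳 : AS 𝒳) {k : Type u} [Field k] {a : Spec (CommRingCat.of k) ⟶ S}
    {z : overCat (Over.mk a) ⥤ᵇ 𝒳} (hzp : Lp z) (hzs : Srj z) (hzf : Fl z) :
    AlgSt.SmoothLocally (fun T => ∀ t : T, IsRegularLocalRing (T.presheaf.stalk t)) 𝒳 := fun U x hx => by
  obtain ⟨T, c, d, _, _, hd, hc⟩ := exists_chart_cover h𝒳 hzs hzf hx
  have : IsLocallyNoetherian U.left := noetherian_of_field h𝒳 hzp hzs hzf U x hx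
  let d' : T.left ⟶ Spec (CommRingCat.of k) := d.left
  have : Smooth d' := hd
  exact AlgSpLib.regular_stalks_of_flat_surjective c.left
    (VarietyLib.isRegularLocalRing_stalk_of_smooth k T.left d')

theorem subsingleton_points_of_field (h𝒳 : AS 𝒳) {k : Type u} [Field k] {a : Spec (CommRingCat.of k) ⟶ S}
    {z : overCat (Over.mk a) ⥤ᵇ 𝒳} (hzs : Srj z) :
    Nonempty (AlgSt.Points 𝒳) ∧ Subsingleton (AlgSt.Points 𝒳) :=
  ⟨⟨AlgSt.Points.ofChart z (IsLocalRing.closedPoint k : ↥(Spec (CommRingCat.of k)))⟩,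
    FieldFlat.points_subsingleton h𝒳.isStack.1 hzs⟩

/-- A reduced locally Noetherian stack with one point is fppf covered by a field. -/
theorem exists_fppf_field (h𝒳 : AS 𝒳) (hred : AlgSt.SmoothLocally (fun T => IsReduced T) 𝒳)
    (hnoeth : AlgSt.SmoothLocally (fun T => IsLocallyNoetherian T) 𝒳)
    (hne : Nonempty (AlgSt.Points 𝒳)) (hsub : Subsingleton (AlgSt.Points 𝒳)) :
    ∃ (k : Type u) (_ : Field k) (a : Spec (CommRingCat.of k) ⟶ S) (z : overCat (Over.mk a) ⥤ᵇ 𝒳),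
      Lp z ∧ Srj z ∧ Fl z := by
  obtain ⟨k₀, _, a₀, z₀, hs₀, hf₀⟩ := exists_flat_field h𝒳 hred hne hsub
  obtain ⟨k, _, a, z, hl, hs, hf⟩ := exists_lft_flat_field h𝒳 hs₀ hf₀
  obtain ⟨W, w, hw, hws⟩ := h𝒳.atlas
  have : IsLocallyNoetherian W.left := hnoeth W w hw
  have hg : Good (AlgSp.LocP @LocallyOfFinitePresentation) z w := fun T e l he i => by
    have h := good_of_with smST_lft hl w T e l he i
    rw [locP_yon_iff AlgSpLib.etLocal_lft] at h
    have : LocallyOfFiniteType l.left := h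
    exact locP_lfp_yon l
  exact ⟨k, inferInstance, a, z, with_of_locQ smST_lfp (pbStable_locP AlgSpLib.etLocal_lfp)
    (schDescent_locP AlgSpLib.etLocal_lfp) (isAlgStack_overCat _) h𝒳 (repByAlgSp1_of_with hl)
    (locQ_of_good (isAlgStack_overCat _) h𝒳 hw hws hg), hs, hf⟩

end Groth.Agent.Stk19b.LocIm
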