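import Groth.Agent.Stk19b.LocIm.PointRG
import Groth.Agent.Stk19b.QDMSlice.Main
import Groth.Agent.AlgSpLib.ChevMain
import Mathlib.RingTheory.Noetherian.Nilpotent

/-!
# Residual gerbes of quasi-DM stacks

A quasi-DM stack has a flat, locally quasi-finite chart, so the chart of
`Spec κ ×_𝒳 U` by a scheme is discrete and locally Noetherian.
-/

set_option autoImplicit false
set_option backward.isDefEq.respectTransparency false
set_option backward.isDefEq.respectTransparency.types false

universe u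

open CategoryTheory CategoryTheory.Limits AlgebraicGeometry Opposite FibCat Groth.Agent.Desc19

namespace Groth.Agent.Stk19b.LocIm

open Groth.Agent.Stk19

variable {S : Scheme.{u}} {𝒳 : AlgSt.Cat S}

local notation "AS" => AlgSt.IsAlgStack Scheme.fppfPrecoverage
local notation "Srj" => AlgSt.RepByAlgSpWith AlgSp.IsSurjectiveMor
local notation "Lp" => AlgSt.RepByAlgSpWith (AlgSp.LocP @LocallyOfFinitePresentation)

theorem good_lfp_of_fibre_lfp (h𝒳 : AS 𝒳) {U : Over S} {w : overCat U ⥤ᵇ 𝒳}
    (hw : Lp w) {K : Type u} [Field K] {a : Spec (CommRingCat.of K) ⟶ S}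
    (j : Over.mk a ⟶ U) {T : Over S} {n : overCat T ⥤ᵇ fp (BasedFunctor.comp (AlgSt.overMap j) w) w}
    (hn : AlgSt.RepByAlgSpWith (AlgSp.LocP @Smooth) n) (hns : Srj n) {t : T ⟶ U}
    (it : BasedFunctor.comp n (fpSnd _ _) ≅ AlgSt.overMap t)
    (hlfp : LocallyOfFinitePresentation (pullback.fst t.left j.left)) :
    Good (AlgSp.LocP @LocallyOfFinitePresentation) (BasedFunctor.comp (AlgSt.overMap j) w)
      (BasedFunctor.comp (AlgSt.overMap j) w) := by
  let z := BasedFunctor.comp (AlgSt.overMap j) w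
  let q := fpSnd z w
  have hK := isAlgStack_overCat (Over.mk a)
  have hU := isAlgStack_overCat U
  have hA := isAlgStack_fp h𝒳.isStack h𝒳.diag hK hU z w
  have hQ := isAlgStack_fp hU.isStack hU.diag hA hK q (AlgSt.overMap j)
  have hfst : LocallyOfFinitePresentation (pullback.snd j t).left := by
    let sq := (IsPullback.of_hasPullback j t).map (Over.forget S)
    have e : sq.flip.isoPullback.hom ≫ pullback.fst t.left j.left = (pullback.snd j t).left :=
      sq.flip.isoPullback_hom_fst
    rw [← e]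
    infer_instance
  have h0 : Good (AlgSp.LocP @LocallyOfFinitePresentation) (AlgSt.overMap j) (AlgSt.overMap t) := by
    obtain ⟨e', ⟨i'⟩, he', hes'⟩ := exists_chart_baseChange t (q := AlgSt.overMap j) (e := BasedFunctor.id _)
      (k := j) (Iso.refl _)
    have hN := isAlgStack_fp hU.isStack hU.diag (isAlgStack_overCat T) hK (AlgSt.overMap t) (AlgSt.overMap j)
    have hidS : Srj (BasedFunctor.id (overCat (Over.mk a))) :=
      repByAlgSpWith_of_isEquivOver (isEquivOver_id _) fun G => surjective_id G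
    exact pcov_of_one smST_lfp hN.isStack.1 (he' (Gerbe.with_id_overCat AlgSpLib.etLocal_smooth _))
      (ofChart_surjective hN.isStack.1 (hes' hidS)) i' (locP_lfp_yon _)
  have h1 : Good (AlgSp.LocP @LocallyOfFinitePresentation) (fpFst q (AlgSt.overMap j)) n :=
    (pcov_equiv (isEquivOver_fpPaste n q (AlgSt.overMap j)) (eqToIso (fpPaste_fst _ _ _))).2 (good_congr it.symm h0)
  have h2 : Lp (fpFst q (AlgSt.overMap j)) :=
    with_of_locQ smST_lfp (pbStable_locP AlgSpLib.etLocal_lfp) (schDescent_locP AlgSpLib.etLocal_lfp) hQ hA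
      (repByAlgSp1_fpFst q (repByAlgSp1_of_repByAlgSp _ (repByAlgSp_overCat _) (repByAlgSp_overCat _)))
      (locQ_of_good hQ hA hn hns h1)
  have h3 : Lp (BasedFunctor.comp (fpFst q (AlgSt.overMap j)) (fpFst z w)) :=
    repByAlgSpWith_comp_desc (respSrc_locP AlgSpLib.etLocal_lfp) (atlasDescent_locP AlgSpLib.etLocal_lfp)
      (compStable_locP AlgSpLib.etLocal_lfp) hQ.isStack.1 hA.isStack.1 h2 (repByAlgSpWith_fpFst z hw)
  obtain ⟨G, hG, -, ⟨c⟩⟩ := exists_inverse (isEquivOver_fpCompFactor z (AlgSt.overMap j) w)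
  have h4 : Lp (fpFst z z) := repByAlgSpWith_of_iso ((postB _ (fpFst z z)).mapIso c)
    (with_equiv_comp hG h3)
  intro W e k he i
  have := Gerbe.prop_of_with_overMap AlgSpLib.etLocal_lfp (repByAlgSpWith_of_iso i
    (with_comp_locP AlgSpLib.etLocal_lfp (isAlgStack_fp h𝒳.isStack h𝒳.diag hK hK z z).isStack.1
      (with_flat_of_smooth he).2 h4))
  exact locP_lfp_yon k

theorem discreteTopology_over_field {K : Type u} [Field K] {W : Scheme.{u}} (w : W ⟶ Spec (CommRingCat.of K))
    [LocallyQuasiFinite w] : DiscreteTopology W := by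
  refine discreteTopology_iff_isOpen_singleton.2 fun z => ?_
  have h := w.isDiscrete_preimage_singleton (w z)
  have e : w ⁻¹' {w z} = Set.univ := Set.eq_univ_of_forall fun v => Subsingleton.elim _ _
  rw [e] at h
  have := isDiscrete_univ_iff.1 h
  exact isOpen_discrete _

/-- A monomorphism of one-point affine schemes with Noetherian target is a closed immersion. -/
theorem surjective_of_mono_of_subsingleton {B C : Type u} [CommRing B] [CommRing C] [IsNoetherianRing B]
    [Subsingleton (PrimeSpectrum B)] (φ : B →+* C) [Mono (Spec.map (CommRingCat.ofHom φ))]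
    : Function.Surjective φ := by
  rcases subsingleton_or_nontrivial C with hC | hC
  · exact fun c => ⟨0, Subsingleton.elim _ _⟩
  have : Nontrivial B := φ.domain_nontrivial
  obtain ⟨M, hM⟩ := Ideal.exists_maximal B
  obtain ⟨P, hP⟩ := Ideal.exists_maximal C
  have hnil : nilradical B = M := by
    refine le_antisymm (nilradical_le_prime M) fun x hx => ?_
    rw [nilradical_eq_sInf, Submodule.mem_sInf]
    intro Q hQ
    have : (⟨Q, hQ⟩ : PrimeSpectrum B) = ⟨M, hM.isPrime⟩ := Subsingleton.elim _ _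
    rw [show Q = M from congrArg PrimeSpectrum.asIdeal this]
    exact hx
  let J : Ideal C := M.map φ
  have hJ : J ≤ P := Ideal.map_le_iff_le_comap.2 (le_of_eq (congrArg PrimeSpectrum.asIdeal
    (Subsingleton.elim (⟨M, hM.isPrime⟩ : PrimeSpectrum B) ⟨P.comap φ, inferInstance⟩)))
  have : Nontrivial (C ⧸ J) := Ideal.Quotient.nontrivial_iff.2 fun h => hP.ne_top (top_le_iff.1 (h ▸ hJ))
  letI : Field (B ⧸ M) := Ideal.Quotient.field M
  let ψ : B ⧸ M →+* C ⧸ J := Ideal.quotientMap J φ Ideal.le_comap_map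
  let r := Spec.map (CommRingCat.ofHom ψ)
  have : IsClosedImmersion (Spec.map (CommRingCat.ofHom (Ideal.Quotient.mk J))) :=
    IsClosedImmersion.spec_of_surjective _ Ideal.Quotient.mk_surjective
  have hcomp : r ≫ Spec.map (CommRingCat.ofHom (Ideal.Quotient.mk M)) =
      Spec.map (CommRingCat.ofHom (Ideal.Quotient.mk J)) ≫ Spec.map (CommRingCat.ofHom φ) := by
    rw [← Spec.map_comp, ← Spec.map_comp]
    congr 1
  have : Mono (r ≫ Spec.map (CommRingCat.ofHom (Ideal.Quotient.mk M))) := by rw [hcomp]; infer_instance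
  have : Mono r := mono_of_mono r (Spec.map (CommRingCat.ofHom (Ideal.Quotient.mk M)))
  have : IsIso r := AlgSpLib.isIso_of_mono_to_field r inferInstance
  have hψ : Function.Bijective ψ := by
    have : IsIso (CommRingCat.ofHom ψ) := by
      have : IsIso (Scheme.Spec.map (CommRingCat.ofHom ψ).op) := ‹IsIso r›
      have : IsIso (CommRingCat.ofHom ψ).op := isIso_of_fully_faithful Scheme.Spec _
      exact isIso_of_op (CommRingCat.ofHom ψ)
    exact ConcreteCategory.bijective_of_isIso (CommRingCat.ofHom ψ)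
  letI := φ.toAlgebra
  let N : Submodule B C := LinearMap.range (Algebra.linearMap B C)
  have htop : N ⊔ M • (⊤ : Submodule B C) = ⊤ := by
    rw [eq_top_iff]
    intro c _
    obtain ⟨b, hb⟩ := hψ.2 (Ideal.Quotient.mk J c)
    obtain ⟨b, rfl⟩ := Ideal.Quotient.mk_surjective b
    have : c - φ b ∈ J := Ideal.Quotient.eq.1 hb.symm
    refine Submodule.mem_sup.2 ⟨φ b, ⟨b, rfl⟩, c - φ b, ?_, by ring⟩
    rw [Ideal.smul_top_eq_map]
    exact this
  obtain ⟨n, hn⟩ := IsNoetherianRing.isNilpotent_nilradical B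
  have hind : ∀ m : ℕ, N ⊔ (M ^ m) • (⊤ : Submodule B C) = ⊤ := by
    intro m
    induction m with
    | zero => rw [pow_zero, Ideal.one_eq_top, Submodule.top_smul, sup_top_eq]
    | succ m ih =>
      refine eq_top_iff.2 (le_trans (le_of_eq htop.symm) (sup_le le_sup_left ?_))
      calc M • (⊤ : Submodule B C) = M • (N ⊔ M ^ m • (⊤ : Submodule B C)) := by rw [ih]
        _ = M • N ⊔ M ^ (m + 1) • (⊤ : Submodule B C) := by
            rw [Submodule.smul_sup, pow_succ', ← Submodule.mul_smul]
        _ ≤ N ⊔ M ^ (m + 1) • (⊤ : Submodule B C) := sup_le_sup_right Submodule.smul_le_right _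
  have hN := hind n
  rw [← hnil, hn] at hN
  simp only [Ideal.zero_eq_bot, Submodule.bot_smul, sup_bot_eq] at hN
  intro c
  have hc : c ∈ N := by rw [hN]; trivial
  exact hc

/-- A monomorphism from a point into a discrete locally Noetherian scheme is locally of finite presentation. -/
theorem lfp_fst_of_discrete_noetherian {T U : Scheme.{u}} [IsLocallyNoetherian T] [DiscreteTopology T]
    {k : Type u} [Field k] (t : T ⟶ U) (j : Spec (CommRingCat.of k) ⟶ U) [Mono j] :
    LocallyOfFinitePresentation (pullback.fst t j) := by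
  let O : T → T.Opens := fun p => ⟨{p}, isOpen_discrete _⟩
  have hO : ⨆ p, O p = ⊤ := by
    ext p
    simp [O]
  refine IsZariskiLocalAtTarget.of_iSup_eq_top (P := @LocallyOfFinitePresentation) O hO fun p => ?_
  have : Subsingleton ↥(O p : Scheme) := inferInstanceAs (Subsingleton ({p} : Set T))
  let m := pullback.fst t j ∣_ O p
  have : Mono m :=
    MorphismProperty.of_isPullback (P := MorphismProperty.monomorphisms Scheme.{u})
      (isPullback_morphismRestrict (pullback.fst t j) (O p)).flip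
      (inferInstanceAs (Mono (pullback.fst t j)))
  have : Subsingleton ↥(pullback.fst t j ⁻¹ᵁ O p : Scheme) :=
    (Scheme.Hom.injective m).subsingleton
  let φ := m.appTop
  have e : Arrow.mk m ≅ Arrow.mk (Spec.map φ) := arrowIsoSpecΓOfIsAffine m
  have : Mono (Spec.map (CommRingCat.ofHom φ.hom)) :=
    ((MorphismProperty.monomorphisms Scheme.{u}).arrow_mk_iso_iff e).1 ‹Mono m›
  have : IsNoetherianRing Γ((O p : Scheme), ⊤) :=
    IsLocallyNoetherian.component_noetherian ⟨⊤, isAffineOpen_top _⟩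
  have : Subsingleton (PrimeSpectrum Γ((O p : Scheme), ⊤)) :=
    (O p : Scheme).isoSpec.inv.homeomorph.injective.subsingleton
  have : IsClosedImmersion m := ((MorphismProperty.arrow_mk_iso_iff @IsClosedImmersion e)).2
    (IsClosedImmersion.spec_of_surjective _ (surjective_of_mono_of_subsingleton φ.hom))
  exact inferInstance

theorem resGerbeExists_of_isQuasiDMOver (h𝒳 : AS 𝒳) (hq : AlgSt.IsQuasiDMOver 𝒳) (x : AlgSt.Points 𝒳) :
    Gerb.ResGerbeExists Scheme.fppfPrecoverage 𝒳 x := by
  obtain ⟨U, w, hw⟩ := QDMSlice.exists_lqf_cover h𝒳 hq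
  have hws : Srj w := repByAlgSpWith_mono (fun _ _ _ _ h => h.2) hw
  have hwp : Lp w := repByAlgSpWith_mono (fun _ _ _ _ h =>
    (AlgSpLib.locP_inf.1 (AlgSpLib.locP_inf.1 h.1).1).2) hw
  have hwq : AlgSt.RepByAlgSpWith (AlgSp.LocP (@LocallyQuasiFinite ⊓ @LocallyOfFiniteType)) w :=
    repByAlgSpWith_mono (fun _ _ _ _ h => AlgSpLib.locP_mono (fun _ _ f hf => ⟨hf.2, by
      have := hf.1.2; infer_instance⟩) h.1) hw
  obtain ⟨v, hv⟩ := ofChart_surjective h𝒳.isStack.1 hws x
  let K := U.left.residueField v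
  let a : Spec (CommRingCat.of K) ⟶ S := U.left.fromSpecResidueField v ≫ U.hom
  let j : Over.mk a ⟶ U := Over.homMk (U.left.fromSpecResidueField v) rfl
  let z := BasedFunctor.comp (AlgSt.overMap j) w
  have hzx : ∀ t, AlgSt.Points.ofChart z t = x := fun t => by
    rw [ofChart_overMap, show j.left t = v from Scheme.fromSpecResidueField_apply v t, hv]
  obtain ⟨F, e, he, hP⟩ := hwq _ z
  obtain ⟨T, ω, hωE, hωS⟩ := F.property.atlas
  let c₀ := BasedFunctor.comp (AlgSt.ofOverCat T) (AlgSt.ofSpMap ω)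
  let n := BasedFunctor.comp c₀ e
  have hn : AlgSt.RepByAlgSpWith (AlgSp.LocP @Smooth) n :=
    with_comp_equiv he (with_sp_chart AlgSpLib.etLocal_smooth F.property ω hωE)
  have hns : Srj n :=
    with_comp_equiv he (with_equiv_comp (isEquivOver_ofOverCat T) (repByAlgSpWith_ofSpMap pbStable_surjective
      (V := ⟨_, AlgSp.IsAlgSpace.yon_obj T⟩) (Z := F) ω (AlgSpLib.ChevGen.isSurjectiveMor_of_repWith hωS)))
  obtain ⟨s, hs⟩ := (AlgSp.yon S).map_surjective (ω ≫ AlgSt.spMapOfOver (BasedFunctor.comp e (fpFst z w)))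
  have hsQ := AlgSp.locP_yon_map (hs ▸ AlgSpLib.locP_comp AlgSpLib.etLocal_lqf
    (AlgSp.IsAlgSpace.yon_obj T) F.property (AlgSp.IsAlgSpace.yon_obj _) (locP_atlas AlgSpLib.etLocal_lqf hωE) hP)
  let s' : T.left ⟶ Spec (CommRingCat.of K) := s.left
  have : LocallyQuasiFinite s' := hsQ.1
  have : LocallyOfFiniteType s' := hsQ.2
  have : IsLocallyNoetherian T.left := LocallyOfFiniteType.isLocallyNoetherian s'
  have : DiscreteTopology T.left := discreteTopology_over_field s'
  obtain ⟨t, ⟨it⟩⟩ := exists_overMap_iso (BasedFunctor.comp n (fpSnd z w))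
  exact resGerbeExists_of_good h𝒳 (good_lfp_of_fibre_lfp h𝒳 hwp j hn hns it
    (lfp_fst_of_discrete_noetherian t.left j.left)) hzx

end Groth.Agent.Stk19b.LocIm
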