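import Groth.Agent.AlgSpLib.MorMore
import Groth.Agent.AlgSpLib.MonoDiscrete
import Mathlib.AlgebraicGeometry.IdealSheaf.Subscheme
import Mathlib.AlgebraicGeometry.Morphisms.FinitePresentation
import Mathlib.AlgebraicGeometry.Morphisms.Preimmersion
import Mathlib.AlgebraicGeometry.FunctionField

/-!
# Fibres over a point which are closed
-/

set_option autoImplicit false
set_option backward.isDefEq.respectTransparency false
set_option backward.isDefEq.respectTransparency.types false

universe u

open CategoryTheory CategoryTheory.Limits AlgebraicGeometry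

namespace Groth.Agent.Stk19b.LocIm

/-- In a Noetherian space every class contains a point with no other specialisation in the class. -/
theorem exists_minimal_in_class {U : Scheme.{u}} [TopologicalSpace.NoetherianSpace U] {α : Type*} (f : U → α)
    (v : U) : ∃ u : U, f u = f v ∧ ∀ w ∈ closure ({u} : Set U), f w = f v → w = u := by
  let A : Set (TopologicalSpace.Closeds U) := {C | ∃ x : U, f x = f v ∧ C = ⟨closure {x}, isClosed_closure⟩}
  obtain ⟨C, ⟨x, hx, rfl⟩, hmin⟩ :=
    (wellFounded_lt (α := TopologicalSpace.Closeds U)).has_min A ⟨_, ⟨v, rfl, rfl⟩⟩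
  refine ⟨x, hx, fun w hw hfw => ?_⟩
  by_contra hne
  refine hmin ⟨closure {w}, isClosed_closure⟩ ⟨w, hfw, rfl⟩ (lt_of_le_of_ne ?_ fun h => hne ?_)
  · exact closure_minimal (Set.singleton_subset_iff.2 hw) isClosed_closure
  · have h' : closure ({w} : Set U) = closure {x} := congrArg (fun C : TopologicalSpace.Closeds U => (C : Set U)) h
    exact (inseparable_iff_closure_eq.2 h').eq

theorem exists_lift_of_range_subset_generic {R : CommRingCat.{u}} [IsDomain R] {T : Scheme.{u}} (h : T ⟶ Spec R)
    (hr : ∀ p : T, (h p).asIdeal = ⊥) :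
    ∃ l : T ⟶ Spec (CommRingCat.of (FractionRing R)),
      l ≫ Spec.map (CommRingCat.ofHom (algebraMap R (FractionRing R))) = h := by
  let ψ : R ⟶ Γ(T, ⊤) := (Scheme.ΓSpecIso R).inv ≫ h.appTop
  have hψ : T.toSpecΓ ≫ Spec.map ψ = h := by
    rw [Spec.map_comp, ← Scheme.toSpecΓ_naturality_assoc, toSpecΓ_SpecMap_ΓSpecIso_inv, Category.comp_id]
  have hu : ∀ f : nonZeroDivisors R, IsUnit (ψ.hom f) := fun f => by
    refine RingedSpace.isUnit_of_isUnit_germ T.toLocallyRingedSpace.toRingedSpace ⊤ (ψ.hom f) fun p hp => ?_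
    have hp' : p ∈ T.basicOpen (ψ.hom f) := by
      rw [← Scheme.toSpecΓ_preimage_basicOpen]
      have hb := hr p
      rw [← hψ] at hb
      intro hmem
      have : (f : R) ∈ (⊥ : Ideal R) := hb ▸ hmem
      exact nonZeroDivisors.coe_ne_zero f ((Ideal.mem_bot).1 this)
    exact (Scheme.mem_basicOpen_top _ _ p).1 hp'
  refine ⟨T.toSpecΓ ≫ Spec.map (CommRingCat.ofHom (IsLocalization.lift (S := FractionRing R) hu)), ?_⟩
  rw [Category.assoc, ← Spec.map_comp, ← CommRingCat.ofHom_comp, IsLocalization.lift_comp]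
  exact hψ

theorem lfp_fst_of_discrete {T U : Scheme.{u}} [IsReduced T] [DiscreteTopology T] {k : Type u} [Field k]
    (t : T ⟶ U) (j : Spec (CommRingCat.of k) ⟶ U) [Mono j] : LocallyOfFinitePresentation (pullback.fst t j) := by
  let O : T → T.Opens := fun p => ⟨{p}, isOpen_discrete _⟩
  have hO : ⨆ p, O p = ⊤ := by
    ext p
    simp [O]
  refine IsZariskiLocalAtTarget.of_iSup_eq_top (P := @LocallyOfFinitePresentation) O hO fun p => ?_
  have hsub : Subsingleton ↥(O p : Scheme) := inferInstanceAs (Subsingleton ({p} : Set T))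
  have : Mono (pullback.fst t j ∣_ O p) :=
    MorphismProperty.of_isPullback (P := MorphismProperty.monomorphisms Scheme.{u})
      (isPullback_morphismRestrict (pullback.fst t j) (O p)).flip
      (inferInstanceAs (Mono (pullback.fst t j)))
  rcases isEmpty_or_nonempty ↥(pullback.fst t j ⁻¹ᵁ O p : Scheme) with he | ⟨⟨r⟩⟩
  · infer_instance
  · let q : ↥(O p : Scheme) := ⟨p, rfl⟩
    obtain ⟨hc, hs⟩ := AlgSpLib.isClosedImmersion_fromSpecResidueField q
    have : IsIso ((O p : Scheme).fromSpecResidueField q) := isIso_of_isClosedImmersion_of_surjective _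
    let m : _ ⟶ Spec (CommRingCat.of ((O p : Scheme).residueField q)) :=
      (pullback.fst t j ∣_ O p) ≫ inv ((O p : Scheme).fromSpecResidueField q)
    have : IsIso m := AlgSpLib.isIso_of_mono_to_field m ⟨r⟩
    have : IsIso (pullback.fst t j ∣_ O p) :=
      IsIso.of_isIso_comp_right (pullback.fst t j ∣_ O p) (inv ((O p : Scheme).fromSpecResidueField q))
    infer_instance

theorem lfp_fst_of_minimal {A : CommRingCat.{u}} (P : Ideal A) [P.IsPrime] {T : Scheme.{u}} [IsLocallyNoetherian T]
    (t : T ⟶ Spec A) (ht : ∀ p : T, P ≤ (t p).asIdeal → (t p).asIdeal = P) :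
    LocallyOfFinitePresentation (pullback.fst t (Spec.map (CommRingCat.ofHom
      ((algebraMap (A ⧸ P) (FractionRing (A ⧸ P))).comp (Ideal.Quotient.mk P))))) := by
  let c := Spec.map (CommRingCat.ofHom (Ideal.Quotient.mk P))
  let g := Spec.map (CommRingCat.ofHom (algebraMap (A ⧸ P) (FractionRing (A ⧸ P))))
  have : IsClosedImmersion c := IsClosedImmersion.spec_of_surjective _ Ideal.Quotient.mk_surjective
  obtain ⟨l, hl⟩ := exists_lift_of_range_subset_generic (R := CommRingCat.of (A ⧸ P)) (pullback.snd t c) fun p => by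
    have e : t (pullback.fst t c p) = c (pullback.snd t c p) := by
      rw [← Scheme.Hom.comp_apply, ← Scheme.Hom.comp_apply, pullback.condition]; rfl
    have hc : (t (pullback.fst t c p)).asIdeal =
        Ideal.comap (Ideal.Quotient.mk P) (pullback.snd t c p).asIdeal := by rw [e]; rfl
    have hle : P ≤ (t (pullback.fst t c p)).asIdeal := by
      rw [hc]
      intro x hx
      rw [Ideal.mem_comap, Ideal.Quotient.eq_zero_iff_mem.2 hx]
      exact zero_mem _
    have := ht _ hle
    rw [hc] at this
    refine Ideal.comap_injective_of_surjective _ Ideal.Quotient.mk_surjective ?_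
    rw [this, ← RingHom.ker_eq_comap_bot, Ideal.mk_ker]
  have : IsPreimmersion g := IsPreimmersion.of_isLocalization (nonZeroDivisors (A ⧸ P))
  have hsplit : IsSplitEpi (pullback.fst (pullback.snd t c) g) :=
    ⟨⟨{ section_ := pullback.lift (𝟙 _) l (by rw [Category.id_comp]; exact hl.symm)
        id := pullback.lift_fst _ _ _ }⟩⟩
  have : IsIso (pullback.fst (pullback.snd t c) g) := isIso_of_mono_of_isSplitEpi _
  rw [show Spec.map (CommRingCat.ofHom ((algebraMap (A ⧸ P) (FractionRing (A ⧸ P))).comp (Ideal.Quotient.mk P))) =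
    g ≫ c by rw [CommRingCat.ofHom_comp, Spec.map_comp]]
  rw [← IsPullback.isoPullback_inv_fst (h := ((IsPullback.of_hasPullback (pullback.snd t c) g).flip.paste_vert
    (IsPullback.of_hasPullback t c).flip).flip)]
  infer_instance

end Groth.Agent.Stk19b.LocIm
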