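import Groth.Agent.Stk19b.LocIm.ResGerbe
import Groth.Agent.Stk19b.LocIm.PointFibre

/-!
# Existence of residual gerbes
-/

set_option autoImplicit false
set_option backward.isDefEq.respectTransparency false
set_option backward.isDefEq.respectTransparency.types false

universe u

open CategoryTheory CategoryTheory.Limits AlgebraicGeometry Opposite FibCat Groth.Agent.Desc19

namespace Groth.Agent.Stk19b.LocIm

open Groth.Agent.Stk19

variable {S : Scheme.{u}} {𝒳 : AlgSt.Cat S}

local notation "AS" => AlgSt.IsAlgStack Scheme.fppfPrecoverage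
local notation "Srj" => AlgSt.RepByAlgSpWith AlgSp.IsSurjectiveMor
local notation "Fl" => AlgSt.RepByAlgSpWith (AlgSp.LocP @Flat)
local notation "Lp" => AlgSt.RepByAlgSpWith (AlgSp.LocP @LocallyOfFinitePresentation)
local notation "Lt" => AlgSt.RepByAlgSpWith (AlgSp.LocP @LocallyOfFiniteType)

/-- If on one atlas of `Spec κ ×_𝒳 U` the fibre over the point `j` is locally of finite presentation, then so is
`Spec κ ×_𝒳 Spec κ → Spec κ`. -/
theorem good_lfp_of_fibre (h𝒳 : AS 𝒳) {U : Over S} {w : overCat U ⥤ᵇ 𝒳}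
    (hw : AlgSt.RepByAlgSpWith (AlgSp.LocP @Smooth) w) {K : Type u} [Field K] {a : Spec (CommRingCat.of K) ⟶ S}
    (j : Over.mk a ⟶ U) {T : Over S} {n : overCat T ⥤ᵇ fp (BasedFunctor.comp (AlgSt.overMap j) w) w}
    (hn : AlgSt.RepByAlgSpWith (AlgSp.LocP @Smooth) n) (hns : Srj n) {t : T ⟶ U}
    (it : BasedFunctor.comp n (fpSnd _ _) ≅ AlgSt.overMap t)
    (hlfp : LocallyOfFinitePresentation (pullback.fst t.left j.left)) :
    Good (AlgSp.LocP @LocallyOfFinitePresentation) (BasedFunctor.comp (AlgSt.overMap j) w)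
      (BasedFunctor.comp (AlgSt.overMap j) w) := by
  let z := BasedFunctor.comp (AlgSt.overMap j) w
  let q := fpSnd z w
  have hK := isAlgStack_overCat (Over.mk a)
  have hU := isAlgStack_overCat U
  have hA := isAlgStack_fp h𝒳.isStack h𝒳.diag hK hU z w
  have hQ := isAlgStack_fp hU.isStack hU.diag hA hK q (AlgSt.overMap j)
  have hfst : LocallyOfFinitePresentation (pullback.snd j t).left := by
    let sq := (IsPullback.of_hasPullback j t).map (Over.forget S)
    have e : sq.flip.isoPullback.hom ≫ pullback.fst t.left j.left = (pullback.snd j t).left :=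
      sq.flip.isoPullback_hom_fst
    rw [← e]
    infer_instance
  have h0 : Good (AlgSp.LocP @LocallyOfFinitePresentation) (AlgSt.overMap j) (AlgSt.overMap t) := by
    obtain ⟨e', ⟨i'⟩, he', hes'⟩ := exists_chart_baseChange t (q := AlgSt.overMap j) (e := BasedFunctor.id _)
      (k := j) (Iso.refl _)
    have hN := isAlgStack_fp hU.isStack hU.diag (isAlgStack_overCat T) hK (AlgSt.overMap t) (AlgSt.overMap j)
    have hidS : Srj (BasedFunctor.id (overCat (Over.mk a))) :=
      repByAlgSpWith_of_isEquivOver (isEquivOver_id _) fun G => surjective_id G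
    exact pcov_of_one smST_lfp hN.isStack.1 (he' (Gerbe.with_id_overCat AlgSpLib.etLocal_smooth _))
      (ofChart_surjective hN.isStack.1 (hes' hidS)) i' (locP_lfp_yon _)
  have h1 : Good (AlgSp.LocP @LocallyOfFinitePresentation) (fpFst q (AlgSt.overMap j)) n :=
    (pcov_equiv (isEquivOver_fpPaste n q (AlgSt.overMap j)) (eqToIso (fpPaste_fst _ _ _))).2 (good_congr it.symm h0)
  have h2 : Lp (fpFst q (AlgSt.overMap j)) :=
    with_of_locQ smST_lfp (pbStable_locP AlgSpLib.etLocal_lfp) (schDescent_locP AlgSpLib.etLocal_lfp) hQ hA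
      (repByAlgSp1_fpFst q (repByAlgSp1_of_repByAlgSp _ (repByAlgSp_overCat _) (repByAlgSp_overCat _)))
      (locQ_of_good hQ hA hn hns h1)
  have h3 : Lp (BasedFunctor.comp (fpFst q (AlgSt.overMap j)) (fpFst z w)) :=
    repByAlgSpWith_comp_desc (respSrc_locP AlgSpLib.etLocal_lfp) (atlasDescent_locP AlgSpLib.etLocal_lfp)
      (compStable_locP AlgSpLib.etLocal_lfp) hQ.isStack.1 hA.isStack.1 h2 (repByAlgSpWith_fpFst z (with_flat_of_smooth hw).2)
  obtain ⟨G, hG, -, ⟨c⟩⟩ := exists_inverse (isEquivOver_fpCompFactor z (AlgSt.overMap j) w)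
  have h4 : Lp (fpFst z z) := repByAlgSpWith_of_iso ((postB _ (fpFst z z)).mapIso c)
    (with_equiv_comp hG h3)
  intro W e k he i
  have := Gerbe.prop_of_with_overMap AlgSpLib.etLocal_lfp (repByAlgSpWith_of_iso i
    (with_comp_locP AlgSpLib.etLocal_lfp (isAlgStack_fp h𝒳.isStack h𝒳.diag hK hK z z).isStack.1
      (with_flat_of_smooth he).2 h4))
  exact locP_lfp_yon k

theorem resGerbeExists_of_good (h𝒳 : AS 𝒳) {K : Type u} [Field K] {a : Spec (CommRingCat.of K) ⟶ S}
    {z : overCat (Over.mk a) ⥤ᵇ 𝒳} (hp : Good (AlgSp.LocP @LocallyOfFinitePresentation) z z)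
    {x : AlgSt.Points 𝒳} (hx : ∀ t, AlgSt.Points.ofChart z t = x) :
    Gerb.ResGerbeExists Scheme.fppfPrecoverage 𝒳 x := by
  have hf := good_flat_field z z
  have hA := isAlgStack_locIm h𝒳 hf hp
  obtain ⟨h₁, -, -⟩ := toLocIm_props h𝒳 hf hp
  obtain ⟨hne, hsub⟩ := subsingleton_points_of_field hA h₁
  refine ⟨_, AlgSt.subIncl 𝒳 (locIm z), hA, rep_fp_subIncl h𝒳 hf hp, hne, hsub, fun p => ?_⟩
  obtain ⟨t, rfl⟩ := ofChart_surjective hA.isStack.1 h₁ p
  rw [map_ofChart]
  exact hx t

theorem resGerbeExists_of_locallyNoetherian (h𝒳 : AS 𝒳)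
    (hN : AlgSt.SmoothLocally (fun T => IsLocallyNoetherian T) 𝒳) (x : AlgSt.Points 𝒳) :
    Gerb.ResGerbeExists Scheme.fppfPrecoverage 𝒳 x := by
  obtain ⟨W, w, hw, hws⟩ := h𝒳.atlas
  obtain ⟨v, hv⟩ := ofChart_surjective h𝒳.isStack.1 hws x
  obtain ⟨_, ⟨V : W.left.Opens, hV, rfl⟩, hvV, -⟩ :=
    W.left.isBasis_affineOpens.exists_subset_of_mem_open (Set.mem_univ v) isOpen_univ
  let U : Over S := Over.mk (hV.fromSpec ≫ W.hom)
  let c : U ⟶ W := Over.homMk hV.fromSpec rfl
  let u := BasedFunctor.comp (AlgSt.overMap c) w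
  have hu : AlgSt.RepByAlgSpWith (AlgSp.LocP @Smooth) u :=
    with_comp_chart AlgSpLib.etLocal_smooth c (inferInstanceAs (Smooth hV.fromSpec)) hw
  have : IsLocallyNoetherian U.left := hN U u hu
  have : IsLocallyNoetherian W.left := hN W w hw
  have : IsNoetherianRing Γ(W.left, V) := IsLocallyNoetherian.component_noetherian ⟨V, hV⟩
  have : TopologicalSpace.NoetherianSpace ↥U.left :=
    inferInstanceAs (TopologicalSpace.NoetherianSpace ↥(Spec Γ(W.left, V)))
  obtain ⟨v₀, hv₀⟩ : v ∈ Set.range hV.fromSpec := by rw [hV.range_fromSpec]; exact hvV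
  obtain ⟨p, hp, hmin⟩ := exists_minimal_in_class (U := U.left) (AlgSt.Points.ofChart u) v₀
  let P : Ideal Γ(W.left, V) := PrimeSpectrum.asIdeal p
  have : P.IsPrime := PrimeSpectrum.isPrime p
  let φ := CommRingCat.ofHom ((algebraMap (Γ(W.left, V) ⧸ P) (FractionRing (Γ(W.left, V) ⧸ P))).comp (Ideal.Quotient.mk P))
  let a : Spec (CommRingCat.of (FractionRing (Γ(W.left, V) ⧸ P))) ⟶ S := Spec.map φ ≫ U.hom
  let j : Over.mk a ⟶ U := Over.homMk (Spec.map φ) rfl
  let z := BasedFunctor.comp (AlgSt.overMap j) u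
  have hjp : ∀ t : PrimeSpectrum (FractionRing (Γ(W.left, V) ⧸ P)), Spec.map φ t = p := fun t =>
    PrimeSpectrum.ext (by
      show Ideal.comap φ.hom t.asIdeal = P
      rw [(IsSimpleOrder.eq_bot_or_eq_top t.asIdeal).resolve_right t.isPrime.ne_top, CommRingCat.hom_ofHom,
        ← Ideal.comap_comap, Ideal.comap_bot_of_injective _ (IsFractionRing.injective _ _),
        ← RingHom.ker_eq_comap_bot, Ideal.mk_ker])
  have hzx : ∀ t, AlgSt.Points.ofChart z t = x := fun t => by
    rw [ofChart_overMap, show j.left t = p from hjp t, hp, ofChart_overMap, show c.left v₀ = v from hv₀, hv]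
  have hA := isAlgStack_fp h𝒳.isStack h𝒳.diag (isAlgStack_overCat (Over.mk a)) (isAlgStack_overCat U) z u
  obtain ⟨T, n, hn, hns⟩ := hA.atlas
  obtain ⟨t, ⟨it⟩⟩ := exists_overMap_iso (BasedFunctor.comp n (fpSnd z u))
  obtain ⟨s, ⟨is⟩⟩ := exists_overMap_iso (BasedFunctor.comp n (fpFst z u))
  have : Smooth s.left := Gerbe.prop_of_with_overMap AlgSpLib.etLocal_smooth (repByAlgSpWith_of_iso is
    (with_comp_locP AlgSpLib.etLocal_smooth hA.isStack.1 hn (repByAlgSpWith_fpFst z hu)))
  let s' : T.left ⟶ Spec (CommRingCat.of (FractionRing (Γ(W.left, V) ⧸ P))) := s.left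
  have : Smooth s' := ‹Smooth s.left›
  have : IsLocallyNoetherian T.left := LocallyOfFiniteType.isLocallyNoetherian s'
  refine resGerbeExists_of_good h𝒳 (good_lfp_of_fibre h𝒳 hu j hn hns it
    (lfp_fst_of_minimal P t.left fun q hq => ?_)) hzx
  have e : AlgSt.Points.ofChart u (t.left q) = AlgSt.Points.ofChart u p := by
    have h1 : AlgSt.Points.ofChart u (t.left q) = AlgSt.Points.ofChart z (s.left q) :=
      (ofChart_overMap t u q).symm.trans ((ofChart_congr ((postB _ z).mapIso is.symm ≪≫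
        (Stk.restr n _).mapIso (fpIso z u) ≪≫ (postB _ u).mapIso it) q).symm.trans (ofChart_overMap s z q))
    exact h1.trans ((hzx _).trans ((hzx (IsLocalRing.closedPoint _ : ↥(Spec (CommRingCat.of (FractionRing (Γ(W.left, V) ⧸ P)))))).symm.trans
      ((ofChart_overMap j u _).trans (congrArg (AlgSt.Points.ofChart u) (hjp _)))))
  have hcl : t.left q ∈ closure ({p} : Set U.left) :=
    (PrimeSpectrum.le_iff_mem_closure p (t.left q)).1 hq
  exact congrArg PrimeSpectrum.asIdeal (hmin _ hcl (e.trans hp))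

end Groth.Agent.Stk19b.LocIm
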