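import Groth.Agent.Stk19b.LocIm.Basic
import Groth.Agent.Stk19b.Fppf.Bootstrap
import Groth.Prelude.Def_AlgSt3

/-!
# The local essential image of a scheme is an algebraic substack
-/

set_option autoImplicit false
set_option backward.isDefEq.respectTransparency false
set_option backward.isDefEq.respectTransparency.types false

universe u

open CategoryTheory CategoryTheory.Limits AlgebraicGeometry Opposite FibCat Groth.Agent.Desc19

namespace Groth.Agent.Stk19b.LocIm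

open Groth.Agent.Stk19

variable {S : Scheme.{u}} {𝒳 : AlgSt.Cat S} {V : Over S} {z : overCat V ⥤ᵇ 𝒳}

local notation "AS" => AlgSt.IsAlgStack Scheme.fppfPrecoverage
local notation "Srj" => AlgSt.RepByAlgSpWith AlgSp.IsSurjectiveMor

/-- If all charts of the base change of `z` to `T` have `P`, so does any space representing it. -/
theorem prop_of_good {P : MorphismProperty (AlgSp.Sp S)} (hP : AlgSp.IsSmoothLocalST P) {T : Over S}
    {y : overCat T ⥤ᵇ 𝒳} (hg : Good P z y) {X : AlgSp.Sp S} (hX : AlgSp.IsAlgSpace X)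
    {e : AlgSt.ofSp X ⥤ᵇ fp y z} (he : IsEquivOver e) :
    P (AlgSt.spMapOfOver (BasedFunctor.comp e (fpFst y z))) := by
  obtain ⟨W, w, hwe, hws⟩ := hX.atlas
  obtain ⟨k, hk⟩ := (AlgSp.yon S).map_surjective (w ≫ AlgSt.spMapOfOver (BasedFunctor.comp e (fpFst y z)))
  obtain ⟨iF⟩ := spMapOfOver_iso (BasedFunctor.comp e (fpFst y z))
  let c := BasedFunctor.comp (AlgSt.ofOverCat W) (AlgSt.ofSpMap w)
  have hi : BasedFunctor.comp c (BasedFunctor.comp (AlgSt.ofSpMap (AlgSt.spMapOfOver (BasedFunctor.comp e (fpFst y z))))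
      (AlgSt.toOverCat T)) = AlgSt.overMap k := by
    rw [show AlgSt.overMap k = BasedFunctor.comp (BasedFunctor.comp (AlgSt.ofOverCat W)
      (AlgSt.ofSpMap ((AlgSp.yon S).map k))) (AlgSt.toOverCat T) from rfl, hk]
    rfl
  have hk' : P ((AlgSp.yon S).map k) := hg W (BasedFunctor.comp c e) k
    (with_comp_equiv he (with_sp_chart AlgSpLib.etLocal_smooth hX w hwe))
    ((Stk.restr c _).mapIso iF ≪≫ eqToIso hi)
  rw [hk] at hk'
  exact smST_source hP hX (AlgSp.IsAlgSpace.yon_obj T) (AlgSp.IsAlgSpace.yon_obj W) w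
    (locP_atlas AlgSpLib.etLocal_smooth hwe) (AlgSpLib.surjective_map_of_repWith hws) hk'

theorem good_flat_of_lift {P : MorphismProperty (AlgSp.Sp S)} (hP : AlgSp.IsSmoothLocalST P)
    (hPb : PbStable P) (hD : SchDescent P) (h𝒳 : AS 𝒳) (hz : Good P z z) {T W : Over S}
    {y : overCat T ⥤ᵇ 𝒳} (c : W ⟶ T) [Flat c.left] [LocallyOfFinitePresentation c.left] [Surjective c.left]
    (t : W ⟶ V) (i : BasedFunctor.comp (AlgSt.overMap c) y ≅ BasedFunctor.comp (AlgSt.overMap t) z) :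
    Good P z y := by
  have h1 : Good P z (BasedFunctor.comp (AlgSt.overMap t) z) := good_comp hP (isAlgStack_overCat V) h𝒳 t
    (fun G l hl => hPb (AlgSp.IsAlgSpace.yon_obj _) (AlgSp.IsAlgSpace.yon_obj _) (AlgSp.IsAlgSpace.yon_obj _)
      (AlgSp.IsAlgSpace.yon_obj _) _ _ _ _ ((IsPullback.of_hasPullback l t).map (AlgSp.yon S)) hl) hz
  exact pcov_descend c (fun G l hl => descend_yon hP hD c l hl) ((good_comp_iff c y).1 (good_congr i.symm h1))

/-- A space representing the base change of `z` to an object which lifts locally is an fppf cover. -/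
theorem prop_witness (h𝒳 : AS 𝒳) (hf : Good (AlgSp.LocP @Flat) z z)
    (hp : Good (AlgSp.LocP @LocallyOfFinitePresentation) z z) {T : Over S} {y : overCat T ⥤ᵇ 𝒳}
    (hy : ∀ a, locIm z (y.obj a)) {X : AlgSp.Sp S} (hX : AlgSp.IsAlgSpace X)
    {e : AlgSt.ofSp X ⥤ᵇ fp y z} (he : IsEquivOver e) :
    AlgSp.IsSurjectiveMor (AlgSt.spMapOfOver (BasedFunctor.comp e (fpFst y z))) ∧
      AlgSp.LocP @Flat (AlgSt.spMapOfOver (BasedFunctor.comp e (fpFst y z))) ∧
      AlgSp.LocP @LocallyOfFinitePresentation (AlgSt.spMapOfOver (BasedFunctor.comp e (fpFst y z))) := by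
  obtain ⟨W, c, t, hc₁, hc₂, hc₃, ⟨i⟩⟩ := exists_lift h𝒳 hy
  refine ⟨?_,
    prop_of_good smST_flat (good_flat_of_lift smST_flat (pbStable_locP AlgSpLib.etLocal_flat)
      (schDescent_locP AlgSpLib.etLocal_flat) h𝒳 hf c t i) hX he,
    prop_of_good smST_lfp (good_flat_of_lift smST_lfp (pbStable_locP AlgSpLib.etLocal_lfp)
      (schDescent_locP AlgSpLib.etLocal_lfp) h𝒳 hp c t i) hX he⟩
  obtain ⟨E, hE, -, ⟨cE⟩⟩ := exists_inverse he
  let L : overCat W ⥤ᵇ fp y z := fpLift (AlgSt.overMap c) (AlgSt.overMap t) i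
  let σ : (AlgSp.yon S).obj W ⟶ X := spHom (BasedFunctor.comp (AlgSt.toOverCat W) (BasedFunctor.comp L E))
  have key : σ ≫ AlgSt.spMapOfOver (BasedFunctor.comp e (fpFst y z)) = (AlgSp.yon S).map c := by
    rw [← spMapOfOver_comp]
    have j : BasedFunctor.comp (BasedFunctor.comp (AlgSt.toOverCat W) (BasedFunctor.comp L E))
        (BasedFunctor.comp e (fpFst y z)) ≅ BasedFunctor.comp (AlgSt.toOverCat W) (AlgSt.overMap c) :=
      (Stk.restr (BasedFunctor.comp (AlgSt.toOverCat W) L) _).mapIso ((postB _ (fpFst y z)).mapIso cE) ≪≫ Iso.refl _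
    rw [spMapOfOver_congr j.hom, spMapOfOver_overMap, spMapOfOver_toOverCat, Category.id_comp]
  intro q
  obtain ⟨r, hr⟩ := surjective_yon (c := c) c.left.surjective q
  exact ⟨AlgSp.Points.map σ r, by rw [← AlgSp.Points.map_comp, key]; exact hr⟩

theorem isPullback_comp_mono {C : Type*} [Category C] {P A B F T : C} {fst : P ⟶ A} {snd : P ⟶ B} {a : A ⟶ F}
    {b : B ⟶ F} (i : F ⟶ T) [Mono i] (sq : IsPullback fst snd a b) : IsPullback fst snd (a ≫ i) (b ≫ i) :=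
  IsPullback.of_isLimit' ⟨by rw [reassoc_of% sq.w]⟩ (PullbackCone.IsLimit.mk _
    (fun s => sq.lift s.fst s.snd ((cancel_mono i).1 (by simpa using s.condition)))
    (fun s => sq.lift_fst _ _ _) (fun s => sq.lift_snd _ _ _)
    (fun s m h₁ h₂ => sq.hom_ext (h₁.trans (sq.lift_fst _ _ _).symm) (h₂.trans (sq.lift_snd _ _ _).symm)))

theorem witness_pullback (y : overCat V ⥤ᵇ 𝒳) {T : Over S} (u : T ⟶ V) {U : Over S} (z' : overCat U ⥤ᵇ 𝒳)
    {X P : AlgSp.Sp S} {e : AlgSt.ofSp X ⥤ᵇ fp y z'} (he : IsEquivOver e) {fst : P ⟶ X}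
    {snd : P ⟶ (AlgSp.yon S).obj T}
    (sq : IsPullback fst snd (AlgSt.spMapOfOver (BasedFunctor.comp e (fpFst y z'))) ((AlgSp.yon S).map u)) :
    ∃ E : AlgSt.ofSp P ⥤ᵇ fp (BasedFunctor.comp (AlgSt.overMap u) y) z', IsEquivOver E ∧
      AlgSt.spMapOfOver (BasedFunctor.comp E (fpFst _ _)) = snd := by
  obtain ⟨E₀, hE₀, hE₀f, -⟩ := exists_fp_equiv sq.flip
  obtain ⟨iF⟩ := spMapOfOver_iso (BasedFunctor.comp e (fpFst y z'))
  obtain ⟨hfull, hfaith, -⟩ := EqvData.of_isEquivOver (isEquivOver_toOverCat V)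
  let E₁ : fp (AlgSt.ofSpMap ((AlgSp.yon S).map u))
      (AlgSt.ofSpMap (AlgSt.spMapOfOver (BasedFunctor.comp e (fpFst y z')))) ⥤ᵇ fp (AlgSt.overMap u) (fpFst y z') :=
    fpMap (AlgSt.toOverCat T) e (AlgSt.toOverCat V) (Iso.refl _) iF.symm
  have hE₁ : IsEquivOver E₁ := isEquivOver_fpMap _ _ _ _ _ (isEquivOver_toOverCat T) he
  refine ⟨BasedFunctor.comp (BasedFunctor.comp E₀ E₁) (fpPaste (AlgSt.overMap u) y z'),
    isEquivOver_comp (isEquivOver_comp hE₀ hE₁) (isEquivOver_fpPaste _ _ _), ?_⟩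
  show AlgSt.spMapOfOver (BasedFunctor.comp (BasedFunctor.comp E₀ (fpFst _ _)) (AlgSt.toOverCat T)) = snd
  rw [hE₀f, spMapOfOver_ofSpMap_comp, spMapOfOver_toOverCat, Category.comp_id]

theorem rep_fp_subIncl (h𝒳 : AS 𝒳) (hf : Good (AlgSp.LocP @Flat) z z)
    (hp : Good (AlgSp.LocP @LocallyOfFinitePresentation) z z) :
    AlgSt.IsMono (AlgSt.subIncl 𝒳 (locIm z)) := by
  intro T y
  have h := h𝒳.isStack.1
  obtain ⟨G, hG, hGf⟩ := exists_imSheaf_equiv (z := z) h y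
  obtain ⟨X, e, he⟩ := repByAlgSp1_of_diag h h𝒳.diag (repByAlgSp_overCat V) z T y
  let a₀ := AlgSt.spMapOfOver (BasedFunctor.comp e (fpFst y z))
  obtain ⟨iF⟩ := spMapOfOver_iso (BasedFunctor.comp e (fpFst y z))
  have hmem : ∀ (B : Over S) (s : X.obj.obj.obj (op B)), a₀.hom.app (op B) s ∈ (imSubfunctor h z y).obj (op B) :=
    fun B s => by
    let o : (AlgSt.ofSp X.obj).obj := ⟨B, s⟩
    exact locIm_of_hom h (y.map (iF.inv.toNatTrans.app o) ≫ (e.obj o).obj.iso.hom) (locIm_obj _)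
  let a : X.obj ⟶ imSheaf h z y := ⟨Subfunctor.lift a₀.hom (by rintro B _ ⟨s, rfl⟩; exact hmem B.unop s)⟩
  have ha : a ≫ imι h z y = a₀ := ObjectProperty.hom_ext _ rfl
  have key : AlgSp.RepBySpWith
      (AlgSp.IsSurjectiveMor ⊓ AlgSp.LocP @Flat ⊓ AlgSp.LocP @LocallyOfFinitePresentation) a.hom := by
    refine (AlgSp.repBySpWith_hom_iff _ _).2 fun T' ξ P fst snd sq => ?_
    obtain ⟨u, hu⟩ := (AlgSp.yon S).map_surjective (ξ ≫ imι h z y)
    have sq' : IsPullback fst snd a₀ ((AlgSp.yon S).map u) := by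
      rw [hu, ← ha]
      exact isPullback_comp_mono _ sq
    have hP : AlgSp.IsAlgSpace P := AlgSpLib.isAlgSpace_of_isPullback (AlgSp.IsAlgSpace.yon_obj T).diag X.property
      (AlgSp.IsAlgSpace.yon_obj T') sq'
    obtain ⟨E, hE, hEf⟩ := witness_pullback y u z he sq'
    have hy : ∀ b, locIm z ((BasedFunctor.comp (AlgSt.overMap u) y).obj b) := fun b => by
      have h1 : ∀ (B : Over S) (s : B ⟶ T'), locIm z (y.obj (Over.mk (s ≫ u))) := fun B s => by
        have h2 := (ξ.hom.app (op B) (ULift.up s)).2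
        have h3 : ((ξ ≫ imι h z y).hom.app (op B) (ULift.up s)).down = s ≫ u := by rw [← hu]; rfl
        rw [← h3]
        exact h2
      exact h1 b.left b.hom
    obtain ⟨h₁, h₂, h₃⟩ := prop_witness h𝒳 hf hp hy hP hE
    rw [hEf] at h₁ h₂ h₃
    exact ⟨hP, ⟨h₁, h₂⟩, h₃⟩
  refine ⟨⟨imSheaf h z y, Stk19b.Fppf.isAlgSpace_of_fppf_cover X.property a key⟩, G, hG, ?_⟩
  change Mono (AlgSt.spMapOfOver (BasedFunctor.comp G (fpFst y (AlgSt.subIncl 𝒳 (locIm z)))))
  rw [hGf, spMapOfOver_ofSpMap_comp, spMapOfOver_toOverCat, Category.comp_id]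
  infer_instance

theorem isAlgStack_locIm (h𝒳 : AS 𝒳) (hf : Good (AlgSp.LocP @Flat) z z)
    (hp : Good (AlgSp.LocP @LocallyOfFinitePresentation) z z) : AS (AlgSt.fullSub 𝒳 (locIm z)) :=
  isAlgStack_of_rep1 (fibGrpd_fullSub h𝒳.isStack.1 (locIm_of_hom h𝒳.isStack.1)) h𝒳 _
    (repByAlgSp1_of_with (rep_fp_subIncl h𝒳 hf hp))

/-- The factorisation of `z` through its local image. -/
def toLocIm (z : overCat V ⥤ᵇ 𝒳) : overCat V ⥤ᵇ AlgSt.fullSub 𝒳 (locIm z) where
  toFunctor := ObjectProperty.lift _ z.toFunctor locIm_obj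
  w := z.w

theorem toLocIm_props (h𝒳 : AS 𝒳) (hf : Good (AlgSp.LocP @Flat) z z)
    (hp : Good (AlgSp.LocP @LocallyOfFinitePresentation) z z) :
    Srj (toLocIm z) ∧ AlgSt.RepByAlgSpWith (AlgSp.LocP @Flat) (toLocIm z) ∧
      AlgSt.RepByAlgSpWith (AlgSp.LocP @LocallyOfFinitePresentation) (toLocIm z) := by
  have key : ∀ (P : MorphismProperty (AlgSp.Sp S)), (∀ (T : Over S) (y : overCat T ⥤ᵇ AlgSt.fullSub 𝒳 (locIm z))
      (X : AlgSp.Space S) (e : AlgSt.ofSp X.obj ⥤ᵇ fp (BasedFunctor.comp y (AlgSt.subIncl 𝒳 (locIm z))) z),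
      IsEquivOver e → P (AlgSt.spMapOfOver (BasedFunctor.comp e (fpFst _ z)))) →
      AlgSt.RepByAlgSpWith P (toLocIm z) := fun P hP T y => by
    obtain ⟨X, e, he⟩ := repByAlgSp1_of_diag h𝒳.isStack.1 h𝒳.diag (repByAlgSp_overCat V) z T
      (BasedFunctor.comp y (AlgSt.subIncl 𝒳 (locIm z)))
    exact witness_transfer'
      (E := fpMap (F := y) (G := toLocIm z) (F' := BasedFunctor.comp y (AlgSt.subIncl 𝒳 (locIm z))) (G' := z)
        (BasedFunctor.id _) (BasedFunctor.id _) (AlgSt.subIncl 𝒳 (locIm z)) (Iso.refl _) (Iso.refl _))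
      (isEquivOver_fpMap _ _ _ _ _ (isEquivOver_id _) (isEquivOver_id _)) (Iso.refl _) ⟨X, e, he, hP T y X e he⟩
  exact ⟨key _ fun T y X e he => (prop_witness h𝒳 hf hp (fun b => (y.obj b).property) X.property he).1,
    key _ fun T y X e he => (prop_witness h𝒳 hf hp (fun b => (y.obj b).property) X.property he).2.1,
    key _ fun T y X e he => (prop_witness h𝒳 hf hp (fun b => (y.obj b).property) X.property he).2.2⟩

end Groth.Agent.Stk19b.LocIm
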