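import Groth.Agent.Stk19b.LocIm.Space
import Groth.Agent.Stk19b.FieldFlat
import Groth.Agent.Stk19.AlgSt.Mono
import Groth.Agent.AlgSpLib.MorMore2
import Mathlib.AlgebraicGeometry.Morphisms.FinitePresentation

/-!
# Stacks covered by a field
-/

set_option autoImplicit false
set_option backward.isDefEq.respectTransparency false
set_option backward.isDefEq.respectTransparency.types false

universe u

open CategoryTheory CategoryTheory.Limits AlgebraicGeometry Opposite FibCat Groth.Agent.Desc19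

namespace Groth.Agent.Stk19b.LocIm

open Groth.Agent.Stk19

variable {S : Scheme.{u}} {𝒳 𝒴 : AlgSt.Cat S}

local notation "AS" => AlgSt.IsAlgStack Scheme.fppfPrecoverage
local notation "Srj" => AlgSt.RepByAlgSpWith AlgSp.IsSurjectiveMor
local notation "Fl" => AlgSt.RepByAlgSpWith (AlgSp.LocP @Flat)
local notation "Lp" => AlgSt.RepByAlgSpWith (AlgSp.LocP @LocallyOfFinitePresentation)
local notation "Lt" => AlgSt.RepByAlgSpWith (AlgSp.LocP @LocallyOfFiniteType)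

section Field

variable {k : Type u} [Field k] {a : Spec (CommRingCat.of k) ⟶ S}

theorem good_flat_field (f : 𝒴 ⥤ᵇ 𝒳) (p : overCat (Over.mk a) ⥤ᵇ 𝒳) : Good (AlgSp.LocP @Flat) f p :=
  fun T _ l _ _ => by
    have : Flat l.left := FieldFlat.flat_to_field _
    exact locP_flat_yon l

theorem good_lfp_field {f : 𝒴 ⥤ᵇ 𝒳} (hf : Lt f) (p : overCat (Over.mk a) ⥤ᵇ 𝒳) :
    Good (AlgSp.LocP @LocallyOfFinitePresentation) f p := fun T e l he i => by
  have h := good_of_with smST_lft hf p T e l he i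
  rw [locP_yon_iff AlgSpLib.etLocal_lft] at h
  have : LocallyOfFiniteType l.left := h
  have : IsLocallyNoetherian (Over.mk a).left := inferInstanceAs (IsLocallyNoetherian (Spec (CommRingCat.of k)))
  exact locP_lfp_yon l

theorem exists_lft_field (h𝒳 : AS 𝒳) (hne : Nonempty (AlgSt.Points 𝒳)) :
    ∃ (k : Type u) (_ : Field k) (a : Spec (CommRingCat.of k) ⟶ S) (z : overCat (Over.mk a) ⥤ᵇ 𝒳), Lt z := by
  obtain ⟨W, w, hw, hws⟩ := h𝒳.atlas
  obtain ⟨p⟩ := hne
  obtain ⟨v, -⟩ := ofChart_surjective h𝒳.isStack.1 hws p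
  obtain ⟨R, j, hj, hv⟩ : ∃ (R : CommRingCat.{u}) (j : Spec R ⟶ W.left), IsOpenImmersion j ∧ Nonempty (Spec R : Scheme) := by
    obtain ⟨i, u, hu⟩ := W.left.affineCover.exists_eq v
    exact ⟨_, W.left.affineCover.f i, inferInstance, ⟨u⟩⟩
  obtain ⟨P⟩ := hv
  have : Nontrivial R := PrimeSpectrum.nontrivial P
  obtain ⟨m, hm⟩ := Ideal.exists_maximal R
  letI : Field (R ⧸ m) := Ideal.Quotient.field m
  let i : Spec (CommRingCat.of (R ⧸ m)) ⟶ W.left := Spec.map (CommRingCat.ofHom (Ideal.Quotient.mk m)) ≫ j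
  have : IsClosedImmersion (Spec.map (CommRingCat.ofHom (Ideal.Quotient.mk m))) :=
    IsClosedImmersion.spec_of_surjective _ Ideal.Quotient.mk_surjective
  let c : Over.mk (i ≫ W.hom) ⟶ W := Over.homMk i rfl
  refine ⟨R ⧸ m, inferInstance, i ≫ W.hom, BasedFunctor.comp (AlgSt.overMap c) w, ?_⟩
  have hi : LocallyOfFiniteType i := inferInstance
  exact with_comp_chart AlgSpLib.etLocal_lft c hi
    (repByAlgSpWith_mono (fun _ _ _ _ ha =>
      AlgSpLib.locP_mono (Q := @LocallyOfFiniteType) (fun _ _ g (hg : Smooth g) => inferInstance) ha) hw)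

/-- An object is in the local image as soon as it lifts after one cover. -/
theorem locIm_of_cover {V T W : Over S} {z : overCat V ⥤ᵇ 𝒳} (h : IsFibGrpd 𝒳.p) {y : overCat T ⥤ᵇ 𝒳}
    (c : W ⟶ T) [Flat c.left] [LocallyOfFinitePresentation c.left] [Surjective c.left] (t : W ⟶ V)
    (i : BasedFunctor.comp (AlgSt.overMap c) y ≅ BasedFunctor.comp (AlgSt.overMap t) z) (b : (overCat T).obj) :
    locIm z (y.obj b) := by
  refine locIm_of_hom h (y.map (toId b)) ?_
  let g : y.obj ((AlgSt.overMap c).obj (Over.mk (𝟙 W))) ⟶ y.obj (Over.mk (𝟙 T)) := y.map (toId _)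
  let o := y.obj (Over.mk (𝟙 T))
  have eo : 𝒳.p.obj o = T := y.w_obj _
  have hF : Flat (c ≫ eqToHom eo.symm).left := by
    rw [Over.comp_left]; infer_instance
  have hL : LocallyOfFinitePresentation (c ≫ eqToHom eo.symm).left := by
    rw [Over.comp_left]; infer_instance
  have hS : Surjective (c ≫ eqToHom eo.symm).left := by
    rw [Over.comp_left]; infer_instance
  refine locIm_cover (c ≫ eqToHom eo.symm) g (lift_mk _ (y.w_obj ((AlgSt.overMap c).obj (Over.mk (𝟙 W)))) rfl ?_)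
    (locIm_of_hom h (i.hom.toNatTrans.app (Over.mk (𝟙 W))) (locIm_obj _)) h
  show 𝒳.p.map (y.map _) = _
  rw [based_map y]
  simp [o, toId, AlgSt.overMap]

/-- Every field-valued point lies in the local image of a flat surjection of finite type from a field. -/
theorem field_mem_locIm (h𝒳 : AS 𝒳) {V : Over S} {z : overCat V ⥤ᵇ 𝒳} (hzs : Srj z) (hzl : Lt z)
    (p : overCat (Over.mk a) ⥤ᵇ 𝒳) (b : (overCat (Over.mk a)).obj) : locIm z (p.obj b) := by
  have hA := isAlgStack_fp h𝒳.isStack h𝒳.diag (isAlgStack_overCat (Over.mk a)) (isAlgStack_overCat V) p z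
  obtain ⟨W, n, hn, hns⟩ := hA.atlas
  obtain ⟨c, ⟨ic⟩⟩ := exists_overMap_iso (BasedFunctor.comp n (fpFst p z))
  obtain ⟨t, ⟨it⟩⟩ := exists_overMap_iso (BasedFunctor.comp n (fpSnd p z))
  have : Flat c.left := FieldFlat.flat_to_field _
  have hc := good_lfp_field hzl p W n c hn ic
  rw [locP_yon_iff AlgSpLib.etLocal_lfp] at hc
  have : LocallyOfFinitePresentation c.left := hc
  have hcs : Srj (AlgSt.overMap c) := repByAlgSpWith_of_iso ic
    (repByAlgSpWith_comp_desc respSrc_surjective atlasDescent_surjective compStable_surjective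
      (isFibGrpd_overCat W) hA.isStack.1 hns (repByAlgSpWith_fpFst p hzs))
  have : Surjective c.left := ⟨fun v => by
    obtain ⟨r, hr⟩ := ofChart_surjective (isFibGrpd_overCat (Over.mk a)) hcs (AlgSt.Points.ofChart (BasedFunctor.id _) v)
    refine ⟨r, (ofChart_id_bijective (Over.mk a)).1 ?_⟩
    rw [← hr, ← ofChart_overMap]
    rfl⟩
  exact locIm_of_cover h𝒳.isStack.1 c t ((postB _ p).mapIso ic.symm ≪≫ (Stk.restr n _).mapIso (fpIso p z) ≪≫
    (postB _ z).mapIso it) b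

/-- Every object lies in the local image of an fppf cover. -/
theorem all_mem_locIm (h : IsFibGrpd 𝒳.p) {V : Over S} {z : overCat V ⥤ᵇ 𝒳} (hzf : Fl z) (hzp : Lp z) (hzs : Srj z)
    (o : 𝒳.obj) : locIm z o := by
  obtain ⟨y, i, -⟩ := exists_classifying h o rfl
  obtain ⟨W, c, _, _, _, w, ⟨iw⟩⟩ := exists_lift_of_cover hzf hzp hzs _ y
  obtain ⟨t, ⟨it⟩⟩ := exists_overMap_iso w
  exact locIm_of_hom h i.inv (locIm_of_cover h c t (iw.symm ≪≫ (postB _ z).mapIso it) _)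

end Field

theorem fpFst_ff {𝒲 : AlgSt.Cat S} (y : 𝒲 ⥤ᵇ 𝒳) (f : 𝒴 ⥤ᵇ 𝒳) [f.toFunctor.Full] [f.toFunctor.Faithful] :
    (fpFst y f).toFunctor.Full ∧ (fpFst y f).toFunctor.Faithful := by
  refine ⟨⟨fun {s t} m => ?_⟩, ⟨fun {s t} k k' h => ?_⟩⟩
  · obtain ⟨k, hk⟩ := f.toFunctor.map_surjective (s.obj.iso.inv ≫ y.map m ≫ t.obj.iso.hom)
    exact ⟨fpHom m k (by rw [hk]; simp), rfl⟩
  · refine fp_hom_ext h (f.toFunctor.map_injective ?_)
    have w : y.map k.hom.fst ≫ t.obj.iso.hom = s.obj.iso.hom ≫ f.map k.hom.snd := k.hom.w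
    have w' : y.map k'.hom.fst ≫ t.obj.iso.hom = s.obj.iso.hom ≫ f.map k'.hom.snd := k'.hom.w
    rw [← cancel_epi s.obj.iso.hom, ← w, ← w']
    exact congrArg (fun m => y.map m ≫ t.obj.iso.hom) h

theorem mono_witness_of_ff {f : 𝒴 ⥤ᵇ 𝒳} [f.toFunctor.Full] [f.toFunctor.Faithful] {T : Over S}
    {y : overCat T ⥤ᵇ 𝒳} {X : AlgSp.Sp S} {e : AlgSt.ofSp X ⥤ᵇ fp y f} (he : IsEquivOver e) :
    Mono (AlgSt.spMapOfOver (BasedFunctor.comp e (fpFst y f))) := by
  obtain ⟨hfull, hfaith, -⟩ := EqvData.of_isEquivOver he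
  obtain ⟨h1, h2⟩ := fpFst_ff y f
  have hΦf : (BasedFunctor.comp e (fpFst y f)).toFunctor.Full := Functor.Full.comp e.toFunctor (fpFst y f).toFunctor
  let a := AlgSt.spMapOfOver (BasedFunctor.comp e (fpFst y f))
  obtain ⟨i⟩ := spMapOfOver_iso (BasedFunctor.comp e (fpFst y f))
  have hfull' : (BasedFunctor.comp (AlgSt.ofSpMap a) (AlgSt.toOverCat T)).toFunctor.Full :=
    @Functor.Full.of_iso _ _ _ _ _ _ hΦf ((BasedNatTrans.forgetful _ _).mapIso i)
  have hinj : ∀ (B : Over S) (s s' : X.obj.obj (op B)), a.hom.app (op B) s = a.hom.app (op B) s' → s = s' := by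
    intro B s s' hss
    let o : (AlgSt.ofSp X).obj := ⟨B, s⟩
    let o' : (AlgSt.ofSp X).obj := ⟨B, s'⟩
    let Φ := BasedFunctor.comp (AlgSt.ofSpMap a) (AlgSt.toOverCat T)
    let m : Φ.obj o ⟶ Φ.obj o' := Over.homMk (𝟙 B) (by
      show 𝟙 B ≫ (a.hom.app (op B) s').down = (a.hom.app (op B) s).down
      rw [Category.id_comp, hss])
    obtain ⟨k, hk⟩ := hfull'.map_surjective m
    have hk' : k.hom = 𝟙 B := congrArg (fun m => m.left) hk
    have := k.map_sec
    rw [hk'] at this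
    simpa [o, o'] using this.symm
  exact ⟨fun {W} g g' h => ObjectProperty.hom_ext _ (by
    ext B s
    exact hinj B.unop _ _ (congrArg (fun (m : W ⟶ _) => m.hom.app B s) h))⟩

/-- A field-valued point whose class comes from a substack factors through it. -/
theorem exists_section_of_ff (h𝒴 : IsFibGrpd 𝒴.p) (h : IsFibGrpd 𝒳.p) {f : 𝒴 ⥤ᵇ 𝒳} [f.toFunctor.Full]
    [f.toFunctor.Faithful] (hf : AlgSt.RepByAlgSp1 f) {k : Type u} [Field k] {a : Spec (CommRingCat.of k) ⟶ S}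
    (z : overCat (Over.mk a) ⥤ᵇ 𝒳) (q : AlgSt.Points 𝒴) (t : ↥(Over.mk a).left)
    (ht : AlgSt.Points.ofChart z t = AlgSt.Points.map f q) :
    ∃ σ : overCat (Over.mk a) ⥤ᵇ 𝒴, Nonempty (BasedFunctor.comp σ f ≅ z) := by
  obtain ⟨X, e, he⟩ := hf _ z
  let α := AlgSt.spMapOfOver (BasedFunctor.comp e (fpFst z f))
  have : Mono α := mono_witness_of_ff he
  obtain ⟨x⟩ : Nonempty (AlgSp.Points X.obj) := by
    obtain ⟨w, -, -⟩ := exists_points_fp h𝒴 h (isFibGrpd_overCat (Over.mk a)) f z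
      (AlgSt.Points.ofChart (BasedFunctor.id _) t) q ht
    obtain ⟨x', -⟩ := (points_bijective_of_equiv he).2 w
    obtain ⟨x, -⟩ := stPt_bijective.2 x'
    exact ⟨x⟩
  have : IsIso α := AlgSpLib.isIso_of_mono_to_field' X.property α x
  let σ₀ : overCat (Over.mk a) ⥤ᵇ fp z f :=
    BasedFunctor.comp (BasedFunctor.comp (AlgSt.ofOverCat _) (AlgSt.ofSpMap (inv α))) e
  obtain ⟨iF⟩ := spMapOfOver_iso (BasedFunctor.comp e (fpFst z f))
  have j : BasedFunctor.comp σ₀ (fpFst z f) ≅ BasedFunctor.id (overCat (Over.mk a)) :=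
    (Stk.restr (BasedFunctor.comp (AlgSt.ofOverCat _) (AlgSt.ofSpMap (inv α))) _).mapIso iF ≪≫ eqToIso (by
      show BasedFunctor.comp (AlgSt.ofOverCat _) (BasedFunctor.comp
        (BasedFunctor.comp (AlgSt.ofSpMap (inv α)) (AlgSt.ofSpMap α)) (AlgSt.toOverCat _)) = _
      rw [ofSpMap_comp, IsIso.inv_hom_id, ofSpMap_id]
      rfl)
  let σ := BasedFunctor.comp σ₀ (fpSnd z f)
  have js : BasedFunctor.comp σ f ≅ z :=
    ((Stk.restr σ₀ _).mapIso (fpIso z f)).symm ≪≫ (postB _ z).mapIso j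
  exact ⟨σ, ⟨js⟩⟩

/-- A monomorphism from a nonempty stack to a stack fppf covered by a field is an equivalence. -/
theorem isEquivOver_of_mono (h𝒴 : AS 𝒴) (h𝒳 : AS 𝒳) {f : 𝒴 ⥤ᵇ 𝒳} [f.toFunctor.Full] [f.toFunctor.Faithful]
    (hf : AlgSt.RepByAlgSp1 f) (hne : Nonempty (AlgSt.Points 𝒴))
    {k : Type u} [Field k] {a : Spec (CommRingCat.of k) ⟶ S} {z : overCat (Over.mk a) ⥤ᵇ 𝒳}
    (hzp : Lp z) (hzs : Srj z) (hzf : Fl z) : IsEquivOver f := by
  have h := h𝒳.isStack.1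
  obtain ⟨q⟩ := hne
  obtain ⟨t, ht⟩ := ofChart_surjective h hzs (AlgSt.Points.map f q)
  obtain ⟨σ, ⟨js⟩⟩ := exists_section_of_ff h𝒴.isStack.1 h hf z q t ht
  refine isEquivOver_of_locally_essSurj (AlgSp.J S) h𝒴.isStack (isStack_isPrestack h𝒳.isStack) f fun o => ?_
  obtain ⟨R, hR, hx⟩ := all_mem_locIm h hzf hzp hzs o
  refine ⟨R, hR, fun B g hg => ?_⟩
  obtain ⟨x, φ, hφ⟩ := hx g hg
  refine ⟨σ.obj x, js.hom.toNatTrans.app x ≫ φ, lift_mk _
    (((BasedFunctor.comp σ f).w_obj x).trans ((z.w_obj x).symm.trans (IsHomLift.domain_eq 𝒳.p g φ))) rfl ?_⟩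
  erw [𝒳.p.map_comp, based_app_map js.hom, IsHomLift.fac' 𝒳.p g φ]
  simp

end Groth.Agent.Stk19b.LocIm
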